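import Cfsg.Agent.Lib.Lie.TwistD4W

/-!
The unipotent radical of the central parabolic of D₄ in any characteristic.
Roots: 18, 13, 12 outer; 14 central; 19, 16, 15 and 17, 20, 21 the middle layers; 22; 23 highest.
-/

set_option autoImplicit false
set_option maxRecDepth 4000
set_option linter.unusedSectionVars false

namespace Cfsg.Agent.Small.D4Degree

open Cfsg.Lie Cfsg.Agent.Lie
open scoped MatrixGroups

variable {K : Type*} [Field K]

/-- A root element. -/
noncomputable abbrev X (r : ℕ) (t : K) : GL chevD4.Idx K := factsD4.xg r t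

theorem nroots_eq : chevD4.nroots = 24 := rfl

theorem zero' (r : ℕ) : X r (0 : K) = 1 := factsD4.xg_zero r

theorem add' (r : ℕ) (t u : K) : X r t * X r u = X r (t + u) := (factsD4.xg_add r t u).symm

theorem inv' (r : ℕ) (t : K) : (X r t)⁻¹ = X r (-t) :=
  inv_eq_of_mul_eq_one_right (by rw [add', add_neg_cancel, zero'])

theorem addP (P : GL chevD4.Idx K) (r : ℕ) (t u : K) : P * X r t * X r u = P * X r (t + u) := by
  rw [mul_assoc, add']

theorem swap {r s : ℕ} {L : List (ℕ × ℤ × ℕ × ℕ)} (h : chevD4.commTerms r s = L) (hr : r < 24)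
    (hs : s < 24) (h1 : s ≠ r) (h2 : s ≠ chevD4.neg r) (t u : K) :
    X s u * X r t = X r t * X s u *
      (L.map fun c => X c.1 ((c.2.1 : K) * (-t) ^ c.2.2.1 * u ^ c.2.2.2)).prod := by
  have key := (factsD4.tsys K).x_comm r s (by rw [nroots_eq]; exact hr) (by rw [nroots_eq]; exact hs) h1 h2 t u
  simp only [ChevalleyDatum.commWord, h, List.map_map] at key
  exact key

/-- The commutators among positive roots: (r, s, k, sign). -/
def brk : List (ℕ × ℕ × ℕ × ℤ) :=
  [(12, 14, 15, 1), (12, 16, 17, 1), (12, 19, 20, 1), (12, 21, 22, 1), (13, 14, 16, 1), (13, 15, 17, 1),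
   (13, 19, 21, 1), (13, 20, 22, 1), (18, 14, 19, -1), (18, 15, 20, -1), (18, 16, 21, -1), (18, 17, 22, -1),
   (14, 22, 23, 1), (19, 17, 23, -1), (16, 20, 23, -1), (15, 21, 23, -1)]

theorem brk_ok : ∀ p ∈ brk, chevD4.commTerms p.1 p.2.1 = [(p.2.2.1, p.2.2.2, 1, 1)] ∧
    p.1 < 24 ∧ p.2.1 < 24 ∧ p.2.1 ≠ p.1 ∧ p.2.1 ≠ chevD4.neg p.1 := by decide +kernel

theorem brk_none : ∀ r : Fin 24, ∀ s : Fin 24, 12 ≤ r.val → 12 ≤ s.val → r.val ≠ s.val →
    (∀ p ∈ brk, ¬ ((p.1 = r.val ∧ p.2.1 = s.val) ∨ (p.1 = s.val ∧ p.2.1 = r.val))) →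
      chevD4.commTerms r.val s.val = [] ∧ s.val ≠ chevD4.neg r.val := by decide +kernel

theorem swapB {r s k : ℕ} {σ : ℤ} (h : (r, s, k, σ) ∈ brk) (t u : K) :
    X s u * X r t = X r t * X s u * X k (-(σ : K) * t * u) := by
  obtain ⟨h, hr, hs, h1, h2⟩ := brk_ok _ h
  rw [swap h hr hs h1 h2]
  simp

/-- The two roots commute. -/
def Free (a r : ℕ) : Prop :=
  12 ≤ a ∧ a < 24 ∧ 12 ≤ r ∧ r < 24 ∧ ∀ p ∈ brk, ¬ ((p.1 = a ∧ p.2.1 = r) ∨ (p.1 = r ∧ p.2.1 = a))

instance (a r : ℕ) : Decidable (Free a r) := by unfold Free; infer_instance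

theorem com {a r : ℕ} (h : Free a r) (t v : K) : X a t * X r v = X r v * X a t := by
  obtain ⟨ha, ha', hr, hr', hp⟩ := h
  by_cases hne : a = r
  · subst hne; rw [add', add', add_comm]
  · obtain ⟨h, h2⟩ := brk_none ⟨r, hr'⟩ ⟨a, ha'⟩ hr ha (Ne.symm hne)
      fun p hm hh => hp p hm (hh.symm)
    rw [swap h hr' ha' hne h2]
    simp

theorem mv (a r : ℕ) (h : Free a r) (P : GL chevD4.Idx K) (t v : K) :
    P * X a t * X r v = P * X r v * X a t := by
  rw [mul_assoc, com h, ← mul_assoc]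

theorem mvs (a r : ℕ) {σ : ℤ} (h : (r, a, 23, σ) ∈ brk) (P : GL chevD4.Idx K) (t v : K) :
    P * X a t * X r v = P * X r v * X a t * X 23 (-(σ : K) * v * t) := by
  rw [mul_assoc, swapB h]
  simp only [mul_assoc]

/-- Conjugation of a root element. -/
theorem cj {r s k : ℕ} {σ : ℤ} (h : (r, s, k, σ) ∈ brk) (v u : K) :
    MulAut.conj (X r v) (X s u) = X s u * X k ((σ : K) * v * u) := by
  rw [MulAut.conj_apply, inv', mul_assoc, swapB h, ← mul_assoc, ← mul_assoc, add', add_neg_cancel, zero', one_mul]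
  congr 2; ring

theorem cj_free {r s : ℕ} (h : Free r s) (v u : K) : MulAut.conj (X r v) (X s u) = X s u := by
  rw [MulAut.conj_apply, com h, mul_inv_cancel_right]

/-- An element of the radical. -/
noncomputable def W (b c1 c2 c3 d1 d2 d3 e f : K) : GL chevD4.Idx K :=
  X 14 b * X 19 c1 * X 16 c2 * X 15 c3 * X 17 d1 * X 20 d2 * X 21 d3 * X 22 e * X 23 f

theorem W_zero : W (0 : K) 0 0 0 0 0 0 0 0 = 1 := by simp [W, zero']

variable (b c1 c2 c3 d1 d2 d3 e f v : K)

theorem W_start : X 14 b = W b 0 0 0 0 0 0 0 (0 : K) := by simp [W, zero']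

theorem W22 : X 22 e = W 0 0 0 0 0 0 0 e (0 : K) := by simp [W, zero']

theorem W23 : X 23 f = W 0 0 0 0 0 0 0 0 (f : K) := by simp [W, zero']

theorem mul23 : W b c1 c2 c3 d1 d2 d3 e f * X 23 v = W b c1 c2 c3 d1 d2 d3 e (f + v) := by
  simp only [W, addP]

theorem mul22 : W b c1 c2 c3 d1 d2 d3 e f * X 22 v = W b c1 c2 c3 d1 d2 d3 (e + v) f := by
  simp only [W]
  rw [mv 23 22 (by decide), addP]

theorem mul21 : W b c1 c2 c3 d1 d2 d3 e f * X 21 v = W b c1 c2 c3 d1 d2 (d3 + v) e f := by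
  simp only [W]
  rw [mv 23 21 (by decide), mv 22 21 (by decide), addP]

theorem mul20 : W b c1 c2 c3 d1 d2 d3 e f * X 20 v = W b c1 c2 c3 d1 (d2 + v) d3 e f := by
  simp only [W]
  rw [mv 23 20 (by decide), mv 22 20 (by decide), mv 21 20 (by decide), addP]

theorem mul17 : W b c1 c2 c3 d1 d2 d3 e f * X 17 v = W b c1 c2 c3 (d1 + v) d2 d3 e f := by
  simp only [W]
  rw [mv 23 17 (by decide), mv 22 17 (by decide), mv 21 17 (by decide), mv 20 17 (by decide), addP]

theorem mul15 : W b c1 c2 c3 d1 d2 d3 e f * X 15 v = W b c1 c2 (c3 + v) d1 d2 d3 e (f + d3 * v) := by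
  simp only [W]
  rw [mv 23 15 (by decide), mv 22 15 (by decide), mvs 21 15 (σ := -1) (by decide),
    mv 20 15 (by decide), mv 17 15 (by decide), addP, mv 23 22 (by decide), addP]
  congr 2
  push_cast; ring

theorem mul16 : W b c1 c2 c3 d1 d2 d3 e f * X 16 v = W b c1 (c2 + v) c3 d1 d2 d3 e (f + d2 * v) := by
  simp only [W]
  rw [mv 23 16 (by decide), mv 22 16 (by decide), mv 21 16 (by decide),
    mvs 20 16 (σ := -1) (by decide), mv 17 16 (by decide), mv 15 16 (by decide), addP,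
    mv 23 21 (by decide), mv 23 22 (by decide), addP]
  congr 2
  push_cast; ring

theorem mul19 : W b c1 c2 c3 d1 d2 d3 e f * X 19 v = W b (c1 + v) c2 c3 d1 d2 d3 e (f + d1 * v) := by
  simp only [W]
  rw [mv 23 19 (by decide), mv 22 19 (by decide), mv 21 19 (by decide), mv 20 19 (by decide),
    mvs 17 19 (σ := -1) (by decide), mv 15 19 (by decide), mv 16 19 (by decide), addP,
    mv 23 20 (by decide), mv 23 21 (by decide), mv 23 22 (by decide), addP]
  congr 2
  push_cast; ring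

theorem mul14 : W b c1 c2 c3 d1 d2 d3 e f * X 14 v = W (b + v) c1 c2 c3 d1 d2 d3 e (f - e * v) := by
  simp only [W]
  rw [mv 23 14 (by decide), mvs 22 14 (σ := 1) (by decide), mv 21 14 (by decide),
    mv 20 14 (by decide), mv 17 14 (by decide), mv 15 14 (by decide), mv 16 14 (by decide),
    mv 19 14 (by decide), add', addP]
  congr 2
  push_cast; ring

variable (b' c1' c2' c3' d1' d2' d3' e' f' : K)

theorem mulW : W b c1 c2 c3 d1 d2 d3 e f * W b' c1' c2' c3' d1' d2' d3' e' f' =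
    W (b + b') (c1 + c1') (c2 + c2') (c3 + c3') (d1 + d1') (d2 + d2') (d3 + d3') (e + e')
      (f + f' - e * b' + d1 * c1' + d2 * c2' + d3 * c3') := by
  have h : W b c1 c2 c3 d1 d2 d3 e f * W b' c1' c2' c3' d1' d2' d3' e' f' =
      W b c1 c2 c3 d1 d2 d3 e f * X 14 b' * X 19 c1' * X 16 c2' * X 15 c3' * X 17 d1' * X 20 d2' *
        X 21 d3' * X 22 e' * X 23 f' := by
    simp only [W, mul_assoc]
  rw [h, mul14, mul19, mul16, mul15, mul17, mul20, mul21, mul22, mul23]
  congr 1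
  ring

theorem W_inv : (W b c1 c2 c3 d1 d2 d3 e f)⁻¹ = W (-b) (-c1) (-c2) (-c3) (-d1) (-d2) (-d3) (-e)
    (-f - e * b + d1 * c1 + d2 * c2 + d3 * c3) := by
  refine inv_eq_of_mul_eq_one_right ?_
  rw [mulW, ← W_zero]
  congr 1 <;> ring

/-- The radical as a set of normal forms. -/
noncomputable def QW (K : Type*) [Field K] : Subgroup (GL chevD4.Idx K) where
  carrier := {u | ∃ b c1 c2 c3 d1 d2 d3 e f, u = W b c1 c2 c3 d1 d2 d3 e f}
  one_mem' := ⟨0, 0, 0, 0, 0, 0, 0, 0, 0, W_zero.symm⟩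
  mul_mem' := by
    rintro _ _ ⟨b, c1, c2, c3, d1, d2, d3, e, f, rfl⟩ ⟨b', c1', c2', c3', d1', d2', d3', e', f', rfl⟩
    exact ⟨_, _, _, _, _, _, _, _, _, mulW b c1 c2 c3 d1 d2 d3 e f b' c1' c2' c3' d1' d2' d3' e' f'⟩
  inv_mem' := by
    rintro _ ⟨b, c1, c2, c3, d1, d2, d3, e, f, rfl⟩
    exact ⟨_, _, _, _, _, _, _, _, _, W_inv b c1 c2 c3 d1 d2 d3 e f⟩

theorem X_mem_QW {r : ℕ} (h : r ∈ [14, 15, 16, 17, 19, 20, 21, 22, 23]) (t : K) : X r t ∈ QW K := by
  refine (?_ : X r t = 1 * X r t) ▸ ?_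
  · rw [one_mul]
  rw [← W_zero]
  simp only [List.mem_cons, List.not_mem_nil, or_false] at h
  rcases h with rfl | rfl | rfl | rfl | rfl | rfl | rfl | rfl | rfl
  exacts [⟨_, _, _, _, _, _, _, _, _, mul14 0 0 0 0 0 0 0 0 0 t⟩, ⟨_, _, _, _, _, _, _, _, _, mul15 0 0 0 0 0 0 0 0 0 t⟩,
    ⟨_, _, _, _, _, _, _, _, _, mul16 0 0 0 0 0 0 0 0 0 t⟩, ⟨_, _, _, _, _, _, _, _, _, mul17 0 0 0 0 0 0 0 0 0 t⟩,
    ⟨_, _, _, _, _, _, _, _, _, mul19 0 0 0 0 0 0 0 0 0 t⟩, ⟨_, _, _, _, _, _, _, _, _, mul20 0 0 0 0 0 0 0 0 0 t⟩,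
    ⟨_, _, _, _, _, _, _, _, _, mul21 0 0 0 0 0 0 0 0 0 t⟩, ⟨_, _, _, _, _, _, _, _, _, mul22 0 0 0 0 0 0 0 0 0 t⟩,
    ⟨_, _, _, _, _, _, _, _, _, mul23 0 0 0 0 0 0 0 0 0 t⟩]

theorem conj18 : MulAut.conj (X 18 v) (W b c1 c2 c3 d1 d2 d3 e f) =
    W b (c1 - b * v) c2 c3 d1 (d2 - c3 * v) (d3 - c2 * v) (e - d1 * v) (f - c2 * c3 * v) := by
  rw [W]
  simp only [map_mul, cj (show (18, 14, 19, -1) ∈ brk by decide), cj (show (18, 15, 20, -1) ∈ brk by decide),
    cj (show (18, 16, 21, -1) ∈ brk by decide), cj (show (18, 17, 22, -1) ∈ brk by decide),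
    cj_free (show Free 18 19 by decide), cj_free (show Free 18 20 by decide), cj_free (show Free 18 21 by decide),
    cj_free (show Free 18 22 by decide), cj_free (show Free 18 23 by decide)]
  simp only [← mul_assoc]
  rw [W_start b]
  simp only [mul19, mul16, mul15, mul17, mul20, mul21, mul22, mul23]
  congr 1 <;> (push_cast; ring)

theorem conj13 : MulAut.conj (X 13 v) (W b c1 c2 c3 d1 d2 d3 e f) =
    W b c1 (c2 + b * v) c3 (d1 + c3 * v) d2 (d3 + c1 * v) (e + d2 * v) (f + c1 * c3 * v) := by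
  rw [W]
  simp only [map_mul, cj (show (13, 14, 16, 1) ∈ brk by decide), cj (show (13, 15, 17, 1) ∈ brk by decide),
    cj (show (13, 19, 21, 1) ∈ brk by decide), cj (show (13, 20, 22, 1) ∈ brk by decide),
    cj_free (show Free 13 16 by decide), cj_free (show Free 13 17 by decide), cj_free (show Free 13 21 by decide),
    cj_free (show Free 13 22 by decide), cj_free (show Free 13 23 by decide)]
  simp only [← mul_assoc]
  rw [W_start b]
  simp only [mul19, mul16, mul15, mul17, mul20, mul21, mul22, mul23]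
  congr 1 <;> (push_cast; ring)

theorem conj12 : MulAut.conj (X 12 v) (W b c1 c2 c3 d1 d2 d3 e f) =
    W b c1 c2 (c3 + b * v) (d1 + c2 * v) (d2 + c1 * v) d3 (e + d3 * v) (f + c1 * c2 * v) := by
  rw [W]
  simp only [map_mul, cj (show (12, 14, 15, 1) ∈ brk by decide), cj (show (12, 16, 17, 1) ∈ brk by decide),
    cj (show (12, 19, 20, 1) ∈ brk by decide), cj (show (12, 21, 22, 1) ∈ brk by decide),
    cj_free (show Free 12 15 by decide), cj_free (show Free 12 17 by decide), cj_free (show Free 12 20 by decide),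
    cj_free (show Free 12 22 by decide), cj_free (show Free 12 23 by decide)]
  simp only [← mul_assoc]
  rw [W_start b]
  simp only [mul19, mul16, mul15, mul17, mul20, mul21, mul22, mul23]
  congr 1 <;> (push_cast; ring)

theorem posL_eq : Facts.posL chevD4 = [12, 13, 14, 15, 16, 17, 18, 19, 20, 21, 22, 23] := by decide +kernel

/-- The coordinates of a sorted product. -/
def crdf (r : ℕ) : K :=
  if r = 14 then b else if r = 15 then c3 else if r = 16 then c2 else if r = 17 then d1 else if r = 19 then c1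
  else if r = 20 then d2 else if r = 21 then d3 else if r = 22 then e else if r = 23 then f else 0

theorem W_sorted : W b c1 c2 c3 d1 d2 d3 e f =
    (factsD4.tsys K).prodOver (Facts.posL chevD4) (crdf b c1 c2 c3 d1 d2 d3 e (f - d1 * c1)) := by
  rw [posL_eq]
  simp [CommSys.prodOver, crdf, Facts.tsys_x, zero', ← mul_assoc]
  show _ = X 14 b * X 15 c3 * X 16 c2 * X 17 d1 * X 19 c1 * X 20 d2 * X 21 d3 * X 22 e * X 23 (f - d1 * c1)
  rw [W_start b]
  simp only [mul15, mul16, mul17, mul19, mul20, mul21, mul22, mul23]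
  congr 1 <;> ring

variable {b c1 c2 c3 d1 d2 d3 e f b' c1' c2' c3' d1' d2' d3' e' f'}

theorem W_inj (h : W b c1 c2 c3 d1 d2 d3 e f = W b' c1' c2' c3' d1' d2' d3' e' f') :
    b = b' ∧ c1 = c1' ∧ c2 = c2' ∧ c3 = c3' ∧ d1 = d1' ∧ d2 = d2' ∧ d3 = d3' ∧ e = e' ∧ f = f' := by
  rw [W_sorted, W_sorted] at h
  have k := factsD4.prodOver_inj factsD4.closedList_posL h
  rw [posL_eq] at k
  have h1 : c1 = c1' := by simpa [crdf] using k 19 (by simp)
  have h2 : d1 = d1' := by simpa [crdf] using k 17 (by simp)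
  refine ⟨by simpa [crdf] using k 14 (by simp), h1, by simpa [crdf] using k 16 (by simp),
    by simpa [crdf] using k 15 (by simp), h2, by simpa [crdf] using k 20 (by simp),
    by simpa [crdf] using k 21 (by simp), by simpa [crdf] using k 22 (by simp), ?_⟩
  have h3 : f - d1 * c1 = f' - d1' * c1' := by simpa [crdf] using k 23 (by simp)
  subst h1 h2
  exact sub_left_injective h3

theorem W_mem_U : W b c1 c2 c3 d1 d2 d3 e f ∈ (factsD4.tsys K).U := by
  simp only [W]
  repeat' apply mul_mem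
  all_goals exact (factsD4.tsys K).x_mem_U (by rw [nroots_eq]; norm_num) (by rw [nroots_eq]; norm_num) _

end Cfsg.Agent.Small.D4Degree
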