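import Cfsg.Agent.Lib.Small.D4Degree.Weights

/-!
The degree bound from the configuration of the unipotent radical of ³D₄(q): a central `Zh` and the
coordinates (b, c, d, e) of the quotient.
-/

set_option autoImplicit false
set_option linter.unusedSectionVars false

namespace Cfsg.Agent.Small.D4Degree

open Module Finset

/-- The coordinates modulo the centre. -/
abbrev Co (F C : Type*) := F × C × C × F

variable {G : Type*} [Group G] {F C : Type*} [Field F] [Fintype F] [AddCommGroup C] [Fintype C]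

/-- `g` maps the class of `w x` to the class of `w y`. -/
def MapsTo' (Zh : F → G) (w : Co F C → G) (g : G) (x y : Co F C) : Prop :=
  ∃ f, g * w x * g⁻¹ = w y * Zh f

/-- The configuration. -/
structure Conf (G : Type*) [Group G] (F C : Type*) [Field F] [Fintype F] [AddCommGroup C] [Fintype C] where
  Zh : F → G
  w : Co F C → G
  hcard : Fintype.card C = Fintype.card F ^ 3
  zh_add : ∀ a b, Zh (a + b) = Zh a * Zh b
  zh_ne : ∀ {f}, f ≠ 0 → Zh f ≠ 1
  w_mul : ∀ x y, ∃ f, w x * w y = w (x + y) * Zh f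
  w_zero : w 0 = 1
  w_comm : ∀ x f, Commute (w x) (Zh f)
  w_uniq : ∀ {x y f f'}, w x * Zh f = w y * Zh f' → x = y
  dd_mul : ∀ d d' e e', w (0, 0, d, e) * w (0, 0, d', e') = w (0, 0, d + d', e + e')
  pair : ∀ d e, (d, e) ≠ 0 → ∀ f, ∃ x, w x * w (0, 0, d, e) * (w x)⁻¹ = w (0, 0, d, e) * Zh f
  conjZ : ∀ {f f'}, f ≠ 0 → f' ≠ 0 → ∃ g, g * Zh f * g⁻¹ = Zh f'
  conjE : ∀ {e}, e ≠ 0 → ∃ g f, f ≠ 0 ∧ g * w (0, 0, 0, e) * g⁻¹ = Zh f
  shiftE : ∀ {d}, d ≠ 0 → ∀ e0, ∃ g, (∀ f, Commute g (Zh f)) ∧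
    ∀ e, ∃ f, g * w (0, 0, d, e) * g⁻¹ = w (0, 0, d, e + e0) * Zh f
  torus : ∃ g, (∀ x, ∃ y, MapsTo' Zh w g x y) ∧ (∀ f, ∃ f', g * Zh f * g⁻¹ = Zh f') ∧
    (∀ e, MapsTo' Zh w g (0, 0, 0, e) (0, 0, 0, e)) ∧
    (∀ d, ∃ d', MapsTo' Zh w g (0, 0, d, 0) (0, 0, d', 0)) ∧
    ∀ c0, ∃ c, MapsTo' Zh w g (0, c, 0, 0) (0, c + c0, 0, 0)
  weyl : ∃ pre : F → F, ∀ μ, ∃ g, (∀ x, ∃ y, MapsTo' Zh w g x y) ∧ (∀ f, ∃ f', g * Zh f * g⁻¹ = Zh f') ∧
    (∀ e, ∃ b c d, MapsTo' Zh w g (0, 0, 0, e) (b, c, d, -(μ * b))) ∧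
    ∀ b, MapsTo' Zh w g (pre b, 0, 0, 0) (0, 0, 0, b)

/-- The inclusion of the layers (d, e). -/
def inDE (F C : Type*) [AddCommGroup F] [AddCommGroup C] : C × F →+ Co F C where
  toFun y := (0, 0, y.1, y.2)
  map_zero' := rfl
  map_add' x y := by ext <;> simp

/-- The inclusion of the last layer. -/
def inE (F C : Type*) [AddCommGroup F] [AddCommGroup C] : F →+ Co F C where
  toFun e := (0, 0, 0, e)
  map_zero' := rfl
  map_add' x y := by simp

theorem dual_surj {ε : AddChar F ℂ} (hε : ε ≠ 1) (β : AddChar F ℂ) :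
    ∃ μ : F, ∀ b, β b = ε (μ * b) := by
  have hinj : Function.Injective fun μ : F => AddChar.mulShift ε μ :=
    AddChar.to_mulShift_inj_of_isPrimitive (AddChar.IsPrimitive.of_ne_one hε)
  have hb := (Fintype.bijective_iff_injective_and_card _).2 ⟨hinj, AddChar.card_eq.symm⟩
  obtain ⟨μ, hμ⟩ := hb.2 β
  exact ⟨μ, fun b => by rw [← hμ]; rfl⟩

variable (X : Conf G F C) {M : Type*} [AddCommGroup M] [Module ℂ M] [FiniteDimensional ℂ M]
  (ρ : G →* Module.End ℂ M)

namespace Conf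

theorem zh_zero : X.Zh 0 = 1 := by
  have h := X.zh_add 0 0
  rwa [add_zero, left_eq_mul] at h

theorem dd_zero_comm (d : C) (e f : F) : Commute (X.w (0, 0, d, e)) (X.Zh f) := X.w_comm _ _

/-- The operators of the centre. -/
noncomputable def opZ (f : F) : Module.End ℂ M := ρ (X.Zh f)

/-- The projection on the fixed points of the centre. -/
noncomputable def P0 : Module.End ℂ M := (Fintype.card F : ℂ)⁻¹ • ∑ f, X.opZ ρ f

/-- The operators of the quotient on the fixed points. -/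
noncomputable def op (x : Co F C) : Module.End ℂ M := ρ (X.w x) * X.P0 ρ

/-- The operators of the abelian subgroup. -/
noncomputable def opA (y : (C × F) × F) : Module.End ℂ M :=
  ρ (X.w (0, 0, y.1.1, y.1.2) * X.Zh y.2)

/-- The character. -/
noncomputable def chr (g : G) : ℂ := LinearMap.trace ℂ M (ρ g)

theorem chr_conj (g x : G) : chr ρ (g * x * g⁻¹) = chr ρ x := by
  rw [chr, chr, map_mul, LinearMap.trace_mul_comm, ← map_mul, ← mul_assoc, inv_mul_cancel, one_mul]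

theorem opZ_mul (a b : F) : X.opZ ρ (a + b) = X.opZ ρ a * X.opZ ρ b := by
  rw [opZ, opZ, opZ, ← map_mul, X.zh_add]

theorem opA_mul (a b : (C × F) × F) : X.opA ρ (a + b) = X.opA ρ a * X.opA ρ b := by
  simp only [opA, ← map_mul, Prod.fst_add, Prod.snd_add, ← X.dd_mul, X.zh_add]
  congr 1
  rw [mul_assoc (X.w _) (X.Zh a.2), ← mul_assoc (X.Zh a.2), ← (X.w_comm _ a.2).eq]
  simp only [mul_assoc]

theorem opZ_P0 (f : F) : X.opZ ρ f * X.P0 ρ = X.P0 ρ := by
  rw [P0, mul_smul_comm, Finset.mul_sum]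
  congr 1
  exact Fintype.sum_equiv (Equiv.addLeft f) _ _ fun g => (X.opZ_mul ρ f g).symm

theorem P0_comm (x : Co F C) : Commute (ρ (X.w x)) (X.P0 ρ) := by
  refine Commute.smul_right (Commute.sum_right _ _ _ fun f _ => ?_) _
  exact (X.w_comm x f).map ρ

theorem P0_idem : X.P0 ρ * X.P0 ρ = X.P0 ρ := by
  nth_rewrite 1 [P0]
  rw [smul_mul_assoc, Finset.sum_mul, Finset.sum_congr rfl fun f _ => X.opZ_P0 ρ f, Finset.sum_const,
    Finset.card_univ, ← Nat.cast_smul_eq_nsmul ℂ, smul_smul, inv_mul_cancel₀ (card_ne F), one_smul]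

theorem op_mul (x y : Co F C) : X.op ρ (x + y) = X.op ρ x * X.op ρ y := by
  obtain ⟨f, hf⟩ := X.w_mul x y
  simp only [op]
  rw [mul_assoc (ρ (X.w x)), ← mul_assoc (X.P0 ρ), ← (X.P0_comm ρ y).eq, mul_assoc (ρ (X.w y)),
    X.P0_idem ρ, ← mul_assoc, ← map_mul, hf, map_mul, mul_assoc, show ρ (X.Zh f) = X.opZ ρ f from rfl,
    X.opZ_P0 ρ]

theorem op_zero : X.op ρ 0 = X.P0 ρ := by rw [op, X.w_zero, map_one, one_mul]

/-- The multiplicity of a character of the centre. -/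
noncomputable def nZ (ψ : AddChar F ℂ) : ℕ := wm (X.opZ ρ) ψ

theorem trace_op (x : Co F C) : LinearMap.trace ℂ M (X.op ρ x) =
    (Fintype.card F : ℂ)⁻¹ * ∑ f, chr ρ (X.w x * X.Zh f) := by
  rw [op, P0, mul_smul_comm, Finset.mul_sum, map_smul, map_sum, smul_eq_mul]
  congr 1
  exact Finset.sum_congr rfl fun f _ => by rw [opZ, ← map_mul, chr]

/-- Conjugation by an element normalising the centre. -/
theorem trace_op_conj {g : G} (hz : ∀ f, ∃ f', g * X.Zh f * g⁻¹ = X.Zh f') {x y : Co F C}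
    (h : MapsTo' X.Zh X.w g x y) : LinearMap.trace ℂ M (X.op ρ y) = LinearMap.trace ℂ M (X.op ρ x) := by
  obtain ⟨f0, hf0⟩ := h
  choose σ hσ using hz
  have hinj : Function.Injective σ := fun a b hab => by
    have e : g * X.Zh a * g⁻¹ = g * X.Zh b * g⁻¹ := by rw [hσ, hσ, hab]
    have e' : X.Zh a = X.Zh b := mul_left_cancel (mul_right_cancel e)
    by_contra hne
    refine X.zh_ne (sub_ne_zero.2 hne) ?_
    have := X.zh_add (a - b) b
    rwa [sub_add_cancel, e', right_eq_mul] at this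
  rw [X.trace_op, X.trace_op]
  congr 1
  symm
  refine Fintype.sum_equiv ((Equiv.ofBijective σ (Finite.injective_iff_bijective.1 hinj)).trans
    (Equiv.addLeft f0)) _ _ fun f => ?_
  rw [← chr_conj ρ g (X.w x * X.Zh f), Equiv.trans_apply, Equiv.ofBijective_apply, Equiv.coe_addLeft,
    X.zh_add]
  congr 1
  rw [← mul_assoc (X.w y), ← hf0, ← hσ f]
  group

/-- The value of the character on the centre. -/
theorem chr_Z {f : F} (hf : f ≠ 0) : chr ρ (X.Zh f) = chr ρ (X.Zh 1) := by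
  obtain ⟨g, hg⟩ := X.conjZ (f := 1) (f' := f) one_ne_zero hf
  rw [← hg, chr_conj]

theorem trace_opA_zero {d : C} {e : F} (hy : (d, e) ≠ 0) (ψ : AddChar F ℂ) (hψ : ψ ≠ 1) :
    ∑ f, ψ (-f) * chr ρ (X.w (0, 0, d, e) * X.Zh f) = 0 := by
  obtain ⟨f0, hf0⟩ := AddChar.ne_one_iff.1 hψ
  obtain ⟨x, hx⟩ := X.pair d e hy f0
  set S := ∑ f, ψ (-f) * chr ρ (X.w (0, 0, d, e) * X.Zh f) with hS
  have h : S = ψ f0 * S := by
    rw [hS, Finset.mul_sum]
    refine Fintype.sum_equiv (Equiv.addLeft f0) _ _ fun f => ?_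
    rw [Equiv.coe_addLeft, ← mul_assoc, ← AddChar.map_add_eq_mul, X.zh_add, ← mul_assoc (X.w _), ← hx]
    rw [show f0 + -(f0 + f) = -f by abel]
    congr 1
    rw [← chr_conj ρ (X.w x) (X.w (0, 0, d, e) * X.Zh f)]
    congr 1
    calc X.w x * (X.w (0, 0, d, e) * X.Zh f) * (X.w x)⁻¹
        = X.w x * X.w (0, 0, d, e) * (X.Zh f * (X.w x)⁻¹) := by simp only [mul_assoc]
      _ = _ := by rw [← ((X.w_comm x f).inv_left).eq, ← mul_assoc]
  by_contra hne
  exact hf0 (mul_right_cancel₀ hne (h.symm.trans (one_mul _).symm))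

/-- All nontrivial characters of the centre have multiplicity q⁴j. -/
theorem exists_j : ∃ j : ℕ, ∀ ψ : AddChar F ℂ, ψ ≠ 1 →
    nZ X ρ ψ = Fintype.card F ^ 4 * j ∧
      chr ρ (X.Zh 1) = (finrank ℂ M : ℂ) - (Fintype.card F : ℂ) ^ 5 * j := by
  classical
  obtain ⟨ψ0, hψ0⟩ : ∃ ψ : AddChar F ℂ, ψ ≠ 1 := by
    obtain ⟨ψ, hψ⟩ := Fintype.exists_ne_of_one_lt_card (by rw [AddChar.card_eq]; exact Fintype.one_lt_card)
      (1 : AddChar F ℂ)
    exact ⟨ψ, hψ⟩
  have hq := card_ne F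
  have key : ∀ ψ : AddChar F ℂ, ψ ≠ 1 →
      (nZ X ρ ψ : ℂ) = (Fintype.card F : ℂ)⁻¹ * ((finrank ℂ M : ℂ) - chr ρ (X.Zh 1)) := by
    intro ψ hψ
    rw [nZ, wm_eq (X.opZ_mul ρ)]
    congr 1
    have h0 : ∑ f : F, ψ (-f) = 0 := by
      rw [show ∑ f : F, ψ (-f) = ∑ f : F, ψ f from Fintype.sum_equiv (Equiv.neg F) _ _ fun f => rfl]
      exact AddChar.sum_eq_zero_of_ne_one hψ
    calc ∑ f, ψ (-f) * LinearMap.trace ℂ M (X.opZ ρ f)
        = ∑ f, ψ (-f) * (chr ρ (X.Zh 1) + (if f = 0 then (finrank ℂ M : ℂ) - chr ρ (X.Zh 1) else 0)) := by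
          refine Finset.sum_congr rfl fun f _ => ?_
          congr 1
          by_cases hf : f = 0
          · rw [hf, if_pos rfl, opZ, X.zh_zero, map_one, LinearMap.trace_one]; ring
          · rw [if_neg hf, add_zero, ← X.chr_Z ρ hf, chr, opZ]
      _ = _ := by
          simp only [mul_add, Finset.sum_add_distrib, mul_ite, mul_zero]
          rw [← Finset.sum_mul, h0, zero_mul, zero_add, Finset.sum_ite_eq' Finset.univ,
            if_pos (Finset.mem_univ _), neg_zero, AddChar.map_zero_eq_one, one_mul]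
  refine ⟨wm (X.opA ρ) (ψ0.compAddMonoidHom (AddMonoidHom.snd (C × F) F)), fun ψ hψ => ?_⟩
  have hj : (wm (X.opA ρ) (ψ0.compAddMonoidHom (AddMonoidHom.snd (C × F) F)) : ℂ) =
      ((Fintype.card F : ℂ) ^ 4)⁻¹ * (nZ X ρ ψ0 : ℂ) := by
    rw [wm_eq (X.opA_mul ρ), Fintype.sum_prod_type, Finset.sum_eq_single (0 : C × F)]
    · rw [nZ, wm_eq (X.opZ_mul ρ), ← mul_assoc]
      congr 1
      · rw [Fintype.card_prod, Fintype.card_prod, X.hcard, ← _root_.mul_inv]
        push_cast; ring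
      · refine Finset.sum_congr rfl fun f _ => ?_
        simp only [opA, opZ, Prod.fst_zero, Prod.snd_zero]
        rw [show ((0 : F), (0 : C), (0 : C), (0 : F)) = 0 from rfl, X.w_zero, one_mul]
        rfl
    · rintro ⟨d, e⟩ - hy
      exact X.trace_opA_zero ρ hy ψ0 hψ0
    · intro h; exact absurd (Finset.mem_univ _) h
  constructor
  · apply Nat.cast_injective (R := ℂ)
    rw [Nat.cast_mul, Nat.cast_pow, hj, key ψ hψ, key ψ0 hψ0]
    field_simp
  · rw [hj, key ψ0 hψ0]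
    field_simp
    ring

include X in
/-- The degree bound. -/
theorem degree_bound (hρ : Function.Injective ρ) :
    2 * (Fintype.card F ^ 4 * (Fintype.card F - 1)) ≤ finrank ℂ M ∨
      Fintype.card F ^ 4 * (Fintype.card F - 1) + Fintype.card F ^ 3 * (Fintype.card F - 1) +
        (Fintype.card F - 1) ≤ finrank ℂ M := by
  classical
  obtain ⟨j, hj⟩ := X.exists_j ρ
  set q := Fintype.card F with hqdef
  have hq : (q : ℂ) ≠ 0 := card_ne F
  have hq2 : 2 ≤ q := Fintype.one_lt_card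
  set U := (Finset.univ : Finset (AddChar F ℂ)).erase 1 with hU
  have hUc : U.card = q - 1 := by
    rw [hU, Finset.card_erase_of_mem (Finset.mem_univ _), Finset.card_univ, AddChar.card_eq]
  obtain ⟨ψ0, hψ0⟩ : U.Nonempty := by rw [← Finset.card_pos, hUc]; omega
  have hψ0' : ψ0 ≠ 1 := Finset.ne_of_mem_erase hψ0
  have hT1 := (hj ψ0 hψ0').2
  have hj1 : 1 ≤ j := by
    by_contra h
    have h1 : X.opZ ρ 1 = X.opZ ρ 0 := op_eq_zero_apply (X.opZ_mul ρ) fun χ hχ => by
      have hne : χ ≠ 1 := fun e => hχ (by rw [e, AddChar.one_apply])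
      show nZ X ρ χ = 0
      rw [(hj χ hne).1, show j = 0 by omega, mul_zero]
    rw [opZ, opZ, X.zh_zero] at h1
    exact X.zh_ne one_ne_zero (hρ h1)
  have htot : finrank ℂ M = nZ X ρ 1 + (q - 1) * (q ^ 4 * j) := by
    apply Nat.cast_injective (R := ℂ)
    have h := trace_eq_sum (X.opZ_mul ρ) 0
    rw [opZ, X.zh_zero, map_one, LinearMap.trace_one] at h
    rw [h, Finset.sum_congr rfl fun χ _ => by rw [AddChar.map_zero_eq_one, one_mul], ← Nat.cast_sum]
    congr 1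
    change ∑ χ, nZ X ρ χ = _
    rw [← Finset.add_sum_erase _ _ (Finset.mem_univ (1 : AddChar F ℂ)),
      Finset.sum_congr rfl fun χ hχ => (hj χ (Finset.ne_of_mem_erase hχ)).1, Finset.sum_const,
      smul_eq_mul, ← hU, hUc]
  rcases Nat.lt_or_ge j 2 with hlt | hge
  swap
  · left
    rw [htot]
    have := Nat.mul_le_mul_left ((q - 1) * q ^ 4) hge
    linarith
  right
  obtain rfl : j = 1 := by omega
  -- the space fixed by the centre
  have hW0 : LinearMap.trace ℂ M (X.P0 ρ) = (nZ X ρ 1 : ℂ) := by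
    rw [nZ, wm_eq (X.opZ_mul ρ), P0, map_smul, map_sum, smul_eq_mul]
    simp only [AddChar.one_apply, one_mul]
  have hE0 : ∀ e : F, e ≠ 0 →
      LinearMap.trace ℂ M (X.op ρ (0, 0, 0, e)) = (nZ X ρ 1 : ℂ) - (q : ℂ) ^ 4 := by
    intro e he
    obtain ⟨g, f, hf, hg⟩ := X.conjE he
    have hall : (q : ℂ) * LinearMap.trace ℂ M (X.op ρ (0, 0, 0, e)) = chr ρ (X.Zh 1) +
        ∑ f ∈ Finset.univ.erase (0 : F), chr ρ (X.w (0, 0, 0, e) * X.Zh f) := by
      rw [X.trace_op, ← mul_assoc, mul_inv_cancel₀ hq, one_mul,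
        ← Finset.add_sum_erase _ _ (Finset.mem_univ (0 : F))]
      congr 1
      rw [X.zh_zero, mul_one, ← chr_conj ρ g, hg, X.chr_Z ρ hf]
    have hsum : ∀ f : F, chr ρ (X.w (0, 0, 0, e) * X.Zh f) = chr ρ (X.w (0, 0, 0, e)) := by
      intro f'
      obtain ⟨x, hx⟩ := X.pair (0 : C) e (fun h => he (congrArg Prod.snd h)) f'
      rw [← hx, chr_conj]
    rw [Finset.sum_congr rfl fun f' _ => hsum f', Finset.sum_const,
      Finset.card_erase_of_mem (Finset.mem_univ _), Finset.card_univ, ← hqdef,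
      ← chr_conj ρ g (X.w (0, 0, 0, e)), hg, X.chr_Z ρ hf, hT1, nsmul_eq_mul,
      Nat.cast_sub (by omega : 1 ≤ q)] at hall
    have hd : (finrank ℂ M : ℂ) = (nZ X ρ 1 : ℂ) + ((q : ℂ) - 1) * ((q : ℂ) ^ 4 * (1 : ℕ)) := by
      rw [htot]; push_cast [Nat.cast_sub (by omega : 1 ≤ q)]; ring
    rw [hd] at hall
    push_cast at hall
    refine mul_left_cancel₀ hq ?_
    rw [hall]
    ring
  have hnE : ∀ ε : AddChar F ℂ, ε ≠ 1 → wm (X.op ρ ∘ inE F C) ε = q ^ 3 := by
    intro ε hε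
    apply Nat.cast_injective (R := ℂ)
    rw [wm_eq (fun a b => by simp only [Function.comp_apply, map_add, X.op_mul ρ])]
    have h0 : ∑ f : F, ε (-f) = 0 := by
      rw [show ∑ f : F, ε (-f) = ∑ f : F, ε f from Fintype.sum_equiv (Equiv.neg F) _ _ fun f => rfl]
      exact AddChar.sum_eq_zero_of_ne_one hε
    calc (q : ℂ)⁻¹ * ∑ e, ε (-e) * LinearMap.trace ℂ M ((X.op ρ ∘ inE F C) e)
        = (q : ℂ)⁻¹ * ∑ e, ε (-e) * ((nZ X ρ 1 : ℂ) - (q : ℂ) ^ 4 + (if e = 0 then (q : ℂ) ^ 4 else 0)) := by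
          congr 1
          refine Finset.sum_congr rfl fun e _ => ?_
          congr 1
          by_cases he : e = 0
          · rw [Function.comp_apply, he, map_zero, X.op_zero, hW0, if_pos rfl]; ring
          · rw [if_neg he, add_zero, ← hE0 e he]; rfl
      _ = _ := by
          simp only [mul_add, Finset.sum_add_distrib, mul_ite, mul_zero]
          rw [← Finset.sum_mul, h0, zero_mul, Finset.sum_ite_eq' Finset.univ,
            if_pos (Finset.mem_univ _), neg_zero, AddChar.map_zero_eq_one, one_mul]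
          push_cast; field_simp; ring
  have hnDE : ∀ ε : AddChar F ℂ, ε ≠ 1 →
      wm (X.op ρ ∘ inDE F C) (ε.compAddMonoidHom (AddMonoidHom.snd C F)) = 1 := by
    intro ε hε
    apply Nat.cast_injective (R := ℂ)
    rw [wm_eq (fun a b => by simp only [Function.comp_apply, map_add, X.op_mul ρ]), Fintype.sum_prod_type,
      Finset.sum_eq_single (0 : C)]
    · have h := congrArg (Nat.cast : ℕ → ℂ) (hnE ε hε)
      rw [wm_eq (fun a b => by simp only [Function.comp_apply, map_add, X.op_mul ρ])] at h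
      rw [Fintype.card_prod, X.hcard, ← hqdef]
      push_cast at h ⊢
      rw [_root_.mul_inv, mul_assoc]
      refine Eq.trans ?_ ((congrArg (fun z => ((q : ℂ) ^ 3)⁻¹ * z) h).trans (inv_mul_cancel₀ (pow_ne_zero _ hq)))
      rfl
    · intro d _ hd
      obtain ⟨e0, he0⟩ := AddChar.ne_one_iff.1 hε
      obtain ⟨g, hgz, hg⟩ := X.shiftE hd e0
      set S := ∑ e : F, ε (-e) * LinearMap.trace ℂ M (X.op ρ (0, 0, d, e)) with hS
      have h : S = ε e0 * S := by
        rw [hS, Finset.mul_sum]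
        refine Fintype.sum_equiv (Equiv.addRight e0) _ _ fun e => ?_
        rw [Equiv.coe_addRight, ← mul_assoc, ← AddChar.map_add_eq_mul,
          X.trace_op_conj ρ (fun f => ⟨f, mul_inv_eq_of_eq_mul (hgz f).eq⟩) (hg e),
          show e0 + -(e + e0) = -e by abel]
      show S = 0
      by_contra hne
      exact he0 (mul_right_cancel₀ hne (h.symm.trans (one_mul _).symm))
    · intro h; exact absurd (Finset.mem_univ _) h
  -- the characters extending a character of the last layer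
  have hlam : ∀ ε : AddChar F ℂ, ε ≠ 1 → ∃ l : AddChar (Co F C) ℂ, wm (X.op ρ) l = 1 ∧
      (∀ d e, l (0, 0, d, e) = ε e) ∧
      ∀ l', wm (X.op ρ) l' ≠ 0 → (∀ d e, l' (0, 0, d, e) = ε e) → l' = l := by
    intro ε hε
    have h1 := hnDE ε hε
    rw [wm_comp (X.op_mul ρ)] at h1
    obtain ⟨l, hl, hl0⟩ := Finset.exists_ne_zero_of_sum_ne_zero (by rw [h1]; exact one_ne_zero)
    have hle := Finset.single_le_sum (fun χ _ => Nat.zero_le (wm (X.op ρ) χ)) hl
    refine ⟨l, by omega, fun d e => ?_, fun l' hl'0 hl' => ?_⟩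
    · exact DFunLike.congr_fun (Finset.mem_filter.1 hl).2 (d, e)
    · by_contra hne
      have hmem : l' ∈ Finset.univ.filter (fun χ : AddChar (Co F C) ℂ =>
          χ.compAddMonoidHom (inDE F C) = ε.compAddMonoidHom (AddMonoidHom.snd C F)) :=
        Finset.mem_filter.2 ⟨Finset.mem_univ _, DFunLike.ext _ _ fun y => hl' y.1 y.2⟩
      have h2 := Finset.add_le_sum (fun χ _ => Nat.zero_le (wm (X.op ρ) χ)) hmem hl hne
      omega
  -- moves
  have move : ∀ g, (∀ x, ∃ y, MapsTo' X.Zh X.w g x y) → (∀ f, ∃ f', g * X.Zh f * g⁻¹ = X.Zh f') →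
      ∃ φ : Co F C →+ Co F C, (∀ x y, MapsTo' X.Zh X.w g x y → φ x = y) ∧ Function.Bijective φ ∧
        ∀ χ, wm (X.op ρ) (χ.compAddMonoidHom φ) = wm (X.op ρ) χ := by
    intro g hw hz
    choose φ f hf using hw
    have huniq : ∀ x y, MapsTo' X.Zh X.w g x y → φ x = y := by
      rintro x y ⟨f', hf'⟩
      exact X.w_uniq ((hf x).symm.trans hf')
    have hadd : ∀ x y, φ (x + y) = φ x + φ y := by
      intro x y
      refine huniq _ _ ?_
      obtain ⟨a, ha⟩ := X.w_mul x y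
      obtain ⟨a', ha'⟩ := X.w_mul (φ x) (φ y)
      obtain ⟨a'', ha''⟩ := hz a
      refine ⟨a' + f x + f y - a'', ?_⟩
      have e : g * X.w (x + y) * g⁻¹ * X.Zh a'' = X.w (φ x + φ y) * (X.Zh a' * (X.Zh (f x) * X.Zh (f y))) := by
        rw [← ha'', show g * X.w (x + y) * g⁻¹ * (g * X.Zh a * g⁻¹) = g * (X.w (x + y) * X.Zh a) * g⁻¹ by group,
          ← ha, show g * (X.w x * X.w y) * g⁻¹ = g * X.w x * g⁻¹ * (g * X.w y * g⁻¹) by group, hf, hf]
        rw [mul_assoc (X.w (φ x)), ← mul_assoc (X.Zh (f x)), ← (X.w_comm (φ y) (f x)).eq, mul_assoc (X.w (φ y)),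
          ← mul_assoc, ha', mul_assoc]
      rw [← X.zh_add, ← X.zh_add, ← add_assoc] at e
      rw [eq_comm, ← mul_left_inj (X.Zh a''), e, mul_assoc, ← X.zh_add, sub_add_cancel]
    have hinj : Function.Injective φ := by
      intro x y hxy
      have h1 := hf x
      have h2 := hf y
      rw [hxy] at h1
      have e : g * (X.w x * X.Zh 0) * g⁻¹ = g * X.w y * g⁻¹ * X.Zh (f x - f y) := by
        rw [X.zh_zero, mul_one, h1, h2, mul_assoc, ← X.zh_add, add_sub_cancel]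
      choose σ hσ using hz
      have hs : Function.Surjective σ := by
        refine (Finite.injective_iff_surjective.1 fun a b hab => ?_)
        have e' : X.Zh a = X.Zh b := mul_left_cancel (mul_right_cancel (by rw [hσ, hσ, hab] :
          g * X.Zh a * g⁻¹ = g * X.Zh b * g⁻¹))
        by_contra hne
        refine X.zh_ne (sub_ne_zero.2 hne) ?_
        have := X.zh_add (a - b) b
        rwa [sub_add_cancel, e', right_eq_mul] at this
      obtain ⟨a, ha⟩ := hs (f x - f y)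
      rw [← ha, ← hσ] at e
      refine X.w_uniq (f := 0) (f' := a) (mul_left_cancel (mul_right_cancel (b := g⁻¹) (a := g * _) ?_))
      rw [e]; group
    refine ⟨AddMonoidHom.mk' φ hadd, huniq, Finite.injective_iff_bijective.1 hinj, fun χ => ?_⟩
    exact wm_move (X.op_mul ρ) _ (Finite.injective_iff_bijective.1 hinj)
      (fun x => X.trace_op_conj ρ hz ⟨f x, hf x⟩) χ
  obtain ⟨pre, hweyl⟩ := X.weyl
  have hnew : ∀ ε : AddChar F ℂ, ε ≠ 1 → ∃ l' : AddChar (Co F C) ℂ, wm (X.op ρ) l' = 1 ∧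
      (∀ e, l' (0, 0, 0, e) = 1) ∧ ∀ b, l' (pre b, 0, 0, 0) = ε b := by
    intro ε hε
    obtain ⟨l, hl1, hlDE, hluniq⟩ := hlam ε hε
    -- the torus kills the second layer
    obtain ⟨g, hgw, hgz, hgE, hgD, hgC⟩ := X.torus
    obtain ⟨φ, hφ, -, hφm⟩ := move g hgw hgz
    have hsame : l.compAddMonoidHom φ = l := by
      refine hluniq _ (by rw [hφm, hl1]; exact one_ne_zero) fun d e => ?_
      obtain ⟨d', hd'⟩ := hgD d
      have e1 : ((0, 0, d, e) : Co F C) = (0, 0, d, 0) + (0, 0, 0, e) := by simp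
      rw [AddChar.compAddMonoidHom_apply, e1, map_add, hφ _ _ hd', hφ _ _ (hgE e),
        show ((0, 0, d', 0) : Co F C) + (0, 0, 0, e) = (0, 0, d', e) by simp]
      exact hlDE d' e
    have hC : ∀ c0, l (0, c0, 0, 0) = 1 := by
      intro c0
      obtain ⟨c, hc⟩ := hgC c0
      have h := DFunLike.congr_fun hsame (0, c, 0, 0)
      rw [AddChar.compAddMonoidHom_apply, hφ _ _ hc,
        show ((0, c + c0, 0, 0) : Co F C) = (0, c, 0, 0) + (0, c0, 0, 0) by simp, AddChar.map_add_eq_mul] at h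
      refine mul_left_cancel₀ ?_ (h.trans (mul_one _).symm)
      intro h0
      have h1 := AddChar.map_add_eq_mul l (0, c, 0, 0) (-(0, c, 0, 0))
      rw [add_neg_cancel, AddChar.map_zero_eq_one, h0, zero_mul] at h1
      exact one_ne_zero h1
    let inB : F →+ Co F C := AddMonoidHom.mk' (fun b => (b, 0, 0, 0)) fun a b => by simp
    obtain ⟨μ, hμ⟩ := dual_surj hε (l.compAddMonoidHom inB)
    obtain ⟨g', hgw', hgz', hgE', hgB'⟩ := hweyl μ
    obtain ⟨φ', hφ', -, hφm'⟩ := move g' hgw' hgz'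
    refine ⟨l.compAddMonoidHom φ', by rw [hφm', hl1], fun e => ?_, fun b => ?_⟩
    · obtain ⟨b, c, d, hb⟩ := hgE' e
      have e1 : ((b, c, d, -(μ * b)) : Co F C) = (b, 0, 0, 0) + (0, c, 0, 0) + (0, 0, d, -(μ * b)) := by simp
      rw [AddChar.compAddMonoidHom_apply, hφ' _ _ hb, e1, AddChar.map_add_eq_mul, AddChar.map_add_eq_mul,
        hC, mul_one, hlDE, show l (b, 0, 0, 0) = ε (μ * b) from hμ b, ← AddChar.map_add_eq_mul,
        add_neg_cancel, AddChar.map_zero_eq_one]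
    · rw [AddChar.compAddMonoidHom_apply, hφ' _ _ (hgB' b)]
      exact hlDE 0 b
  choose! L hL1 hLE hLB using hnew
  have hLinj : Set.InjOn L U := by
    intro ε hε ε' hε' h
    refine DFunLike.ext _ _ fun b => ?_
    rw [← hLB ε (Finset.ne_of_mem_erase hε) b, ← hLB ε' (Finset.ne_of_mem_erase hε') b, h]
  -- the sum
  have hsplit : nZ X ρ 1 = ∑ ε : AddChar F ℂ, wm (X.op ρ ∘ inE F C) ε := by
    apply Nat.cast_injective (R := ℂ)
    rw [← hW0, ← X.op_zero ρ, ← map_zero (inE F C), Nat.cast_sum]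
    rw [show X.op ρ ((inE F C) 0) = (X.op ρ ∘ inE F C) 0 from rfl,
      trace_eq_sum (fun a b => by simp only [Function.comp_apply, map_add, X.op_mul ρ])]
    exact Finset.sum_congr rfl fun χ _ => by rw [AddChar.map_zero_eq_one, one_mul]
  rw [← Finset.add_sum_erase _ _ (Finset.mem_univ (1 : AddChar F ℂ)), ← hU,
    Finset.sum_congr rfl fun ε hε => hnE ε (Finset.ne_of_mem_erase hε), Finset.sum_const, smul_eq_mul,
    hUc] at hsplit
  have hone : q - 1 ≤ wm (X.op ρ ∘ inE F C) 1 := by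
    rw [wm_comp (X.op_mul ρ), ← hUc, ← Finset.card_image_of_injOn hLinj, Finset.card_eq_sum_ones]
    refine (Finset.sum_le_sum fun l hl => ?_).trans (Finset.sum_le_sum_of_subset fun l hl => ?_)
    · obtain ⟨ε, hε, rfl⟩ := Finset.mem_image.1 hl
      exact (hL1 ε (Finset.ne_of_mem_erase hε)).ge
    · obtain ⟨ε, hε, rfl⟩ := Finset.mem_image.1 hl
      exact Finset.mem_filter.2 ⟨Finset.mem_univ _,
        DFunLike.ext _ _ fun e => hLE ε (Finset.ne_of_mem_erase hε) e⟩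
  rw [htot, hsplit]
  linarith

end Conf

end Cfsg.Agent.Small.D4Degree
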