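import Cfsg.Agent.Lib.Small.D4Degree.Alg
import Cfsg.Agent.Lib.Small.D4Torus.Cent

/-!
The part of ³D₄(q) in the radical, and the elements moving it.
-/

set_option autoImplicit false
set_option maxRecDepth 4000
set_option linter.unusedSectionVars false

namespace Cfsg.Agent.Small.D4Degree

open Cfsg.Lie Cfsg.Agent.Lie
open Cfsg.Agent.Lie.D4 (Setup)
open Cfsg.Agent.Small.D4Torus (tt nrm torChar_fin)
open scoped MatrixGroups

variable {K : Type*} [Field K] [Fintype K] {q : ℕ} (S : Setup K q)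

/-- The trace to the subfield. -/
def tr (q : ℕ) (x : K) : K := x + x ^ q + (x ^ q) ^ q

/-- The fixed element of the radical with the given coordinates. -/
noncomputable def Q (q : ℕ) (b c d e f : K) : GL chevD4.Idx K :=
  W b c (-c ^ q) (-(c ^ q) ^ q) d (-d ^ q) (-(d ^ q) ^ q) e f

theorem img_tab : ∀ p ∈ [(14, 14, (1 : ℤ)), (19, 16, -1), (16, 15, 1), (15, 19, -1), (17, 20, -1), (20, 21, 1),
    (21, 17, -1), (22, 22, 1), (23, 23, 1)],
    graphD4a.img p.1 = p.2.1 ∧ graphD4a.sign p.1 = p.2.2 ∧ p.1 < 24 := by decide +kernel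

include S in
theorem qadd (x y : K) : (x + y) ^ q = x ^ q + y ^ q := by
  rw [← S.hfr, ← S.hfr, ← S.hfr, map_add]

include S in
theorem qneg (x : K) : (-x) ^ q = -(x ^ q) := by rw [← S.hfr, ← S.hfr, map_neg]

include S in
theorem qzero : (0 : K) ^ q = 0 := zero_pow (by have := S.hq; omega)

include S in
theorem Q_mul (b c d e f b' c' d' e' f' : K) : Q q b c d e f * Q q b' c' d' e' f' =
    Q q (b + b') (c + c') (d + d') (e + e') (f + f' - e * b' + tr q (d * c')) := by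
  simp only [Q, tr, mulW, qadd S, mul_pow]
  congr 1 <;> ring

include S in
theorem Q23 (f : K) : Q q 0 0 0 0 f = X 23 f := by
  rw [Q, W23, qzero S, qzero S, neg_zero]

include S in
theorem Q_zero : Q q 0 0 0 0 (0 : K) = 1 := by rw [Q23 S, zero']

include S in
theorem sig_X {r r' : ℕ} {σ : ℤ} (h : (r, r', σ) ∈ [(14, 14, (1 : ℤ)), (19, 16, -1), (16, 15, 1), (15, 19, -1),
    (17, 20, -1), (20, 21, 1), (21, 17, -1), (22, 22, 1), (23, 23, 1)]) (t : K) :
    S.T.sig (X r t) = X r' ((σ : K) * t ^ q) := by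
  obtain ⟨h1, h2, hlt⟩ := img_tab _ h
  rw [S.T.sig_x r hlt, factsD4.imgX_lt _ hlt, S.expo_one hlt, S.hfr, S.hR, h1, h2, pow_one]

include S in
theorem sig_W (b c1 c2 c3 d1 d2 d3 e f : K) : S.T.sig (W b c1 c2 c3 d1 d2 d3 e f) =
    W (b ^ q) (-c3 ^ q) (-c1 ^ q) (c2 ^ q) (-d3 ^ q) (-d1 ^ q) (d2 ^ q) (e ^ q) (f ^ q) := by
  have hW : W b c1 c2 c3 d1 d2 d3 e f = (([(14, b), (19, c1), (16, c2), (15, c3), (17, d1), (20, d2), (21, d3),
      (22, e), (23, f)] : List (ℕ × K)).map fun p => X p.1 p.2).prod := by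
    simp [W, mul_assoc]
  have hsig : ∀ L : List (ℕ × K), S.T.sig (L.map fun p => X p.1 p.2).prod =
      (L.map fun p => S.T.sig (X p.1 p.2)).prod := by
    intro L
    induction L with
    | nil => simpa using S.T.sig_one
    | cons p L ih =>
      rw [List.map_cons, List.map_cons, List.prod_cons, List.prod_cons,
        S.T.sig_mul _ (factsD4.xg_mem_group p.1 p.2) _ (Subgroup.list_prod_mem _ fun g hg => by
          obtain ⟨r, -, rfl⟩ := List.mem_map.1 hg
          exact factsD4.xg_mem_group _ _), ih]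
  rw [hW, hsig]
  simp only [List.map_cons, List.map_nil, List.prod_cons, List.prod_nil, mul_one, ← mul_assoc]
  rw [sig_X S (r := 14) (r' := 14) (σ := 1) (by simp), sig_X S (r := 19) (r' := 16) (σ := -1) (by simp),
    sig_X S (r := 16) (r' := 15) (σ := 1) (by simp), sig_X S (r := 15) (r' := 19) (σ := -1) (by simp),
    sig_X S (r := 17) (r' := 20) (σ := -1) (by simp), sig_X S (r := 20) (r' := 21) (σ := 1) (by simp),
    sig_X S (r := 21) (r' := 17) (σ := -1) (by simp), sig_X S (r := 22) (r' := 22) (σ := 1) (by simp),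
    sig_X S (r := 23) (r' := 23) (σ := 1) (by simp)]
  rw [W_start (((1 : ℤ) : K) * b ^ q)]
  simp only [mul15, mul16, mul17, mul19, mul20, mul21, mul22, mul23]
  congr 1 <;> (push_cast; ring)

include S in
theorem Q_fixed {b c d e f : K} (hb : b ^ q = b) (he : e ^ q = e) (hf : f ^ q = f) :
    Q q b c d e f ∈ twistedD4 K q := by
  refine S.data.U_fix_le ⟨W_mem_U, S.T.US_le_group _ W_mem_U, ?_⟩
  rw [Q, sig_W S, hb, he, hf]
  simp only [qneg S, neg_neg, S.pow_cube]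

include S in
/-- The group meets the radical in the `Q`. -/
theorem W_fix {b c1 c2 c3 d1 d2 d3 e f : K} (h : W b c1 c2 c3 d1 d2 d3 e f ∈ twistedD4 K q) :
    b ^ q = b ∧ e ^ q = e ∧ f ^ q = f ∧ W b c1 c2 c3 d1 d2 d3 e f = Q q b c1 d1 e f := by
  have h' := (S.le_fix h).2
  rw [sig_W S] at h'
  obtain ⟨hb, -, h2, h3, -, h5, h6, he, hf⟩ := W_inj h'
  refine ⟨hb, he, hf, ?_⟩
  subst h2 h5
  rw [← h3, ← h6, Q, qneg S, qneg S]

theorem conjA (x y z b c1 c2 c3 d1 d2 d3 e f : K) :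
    ∃ C1 C2 C3 D1 D2 D3 F', MulAut.conj (X 18 x * X 13 y * X 12 z) (W b c1 c2 c3 d1 d2 d3 e f) =
      W b C1 C2 C3 D1 D2 D3
        (e + z * d3 + y * (d2 + c1 * z) - x * (d1 + c2 * z + y * (c3 + b * z))) F' := by
  rw [map_mul, map_mul, MulAut.mul_apply, MulAut.mul_apply, conj12, conj13, conj18,
    show e + z * d3 + y * (d2 + c1 * z) - x * (d1 + c2 * z + y * (c3 + b * z)) =
      e + d3 * z + (d2 + c1 * z) * y - (d1 + c2 * z + (c3 + b * z) * y) * x by ring]
  exact ⟨_, _, _, _, _, _, _, rfl⟩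

theorem conjA_DE (x y z d1 d2 d3 e f : K) :
    MulAut.conj (X 18 x * X 13 y * X 12 z) (W 0 0 0 0 d1 d2 d3 e f) =
      W 0 0 0 0 d1 d2 d3 (e + z * d3 + y * d2 - x * d1) f := by
  rw [map_mul, map_mul, MulAut.mul_apply, MulAut.mul_apply, conj12, conj13, conj18]
  congr 1 <;> ring

/-- The outer element. -/
noncomputable def A (q : ℕ) (a : K) : GL chevD4.Idx K := X 18 a * X 13 (a ^ q) * X 12 ((a ^ q) ^ q)

include S in
theorem A_mem (a : K) : A q a ∈ twistedD4 K q := by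
  have h := S.B_mem (Or.inl rfl) a
  simpa [A, CommSys.prodOver, Facts.sys_x, Setup.cB, mul_assoc] using h

theorem A_conj23 (a f : K) : MulAut.conj (A q a) (X 23 f) = X 23 f := by
  rw [A, map_mul, map_mul, MulAut.mul_apply, MulAut.mul_apply, cj_free (show Free 12 23 by decide),
    cj_free (show Free 13 23 by decide), cj_free (show Free 18 23 by decide)]

/-- The composite of reflections. -/
def actL : List (Fin chevD4.rank) → ℕ → ℕ
  | [], s => s
  | i :: ω, s => chevD4.reflectRoot i.val (actL ω s)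

theorem actL_lt : ∀ (ω : List (Fin chevD4.rank)) {s : ℕ}, s < 24 → actL ω s < 24
  | [], _, hs => hs
  | i :: ω, _, hs => factsD4.refl_lt i.val i.isLt _ (actL_lt ω hs)

theorem nw_X : ∀ (ω : List (Fin chevD4.rank)) {s : ℕ}, s < 24 → ∃ σ : K, (σ = 1 ∨ σ = -1) ∧ ∀ t : K,
    (factsD4.tsys K).nw ω * X s t * ((factsD4.tsys K).nw ω)⁻¹ = X (actL ω s) (σ * t)
  | [], s, _ => ⟨1, Or.inl rfl, fun t => by simp [TorusSys.nw_nil, actL]⟩
  | i :: ω, s, hs => by
    obtain ⟨σ, hσ, h⟩ := nw_X ω hs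
    refine ⟨factsD4.sgn K i.val (actL ω s) * σ, ?_, fun t => ?_⟩
    · rcases factsD4.eta_sign i.val i.isLt _ (actL_lt ω hs) with he | he <;> rcases hσ with rfl | rfl <;>
        simp [Facts.sgn, he]
    · rw [TorusSys.nw_cons, show (factsD4.tsys K).nS i * (factsD4.tsys K).nw ω * X s t *
        ((factsD4.tsys K).nS i * (factsD4.tsys K).nw ω)⁻¹ = (factsD4.tsys K).nS i *
        ((factsD4.tsys K).nw ω * X s t * ((factsD4.tsys K).nw ω)⁻¹) * ((factsD4.tsys K).nS i)⁻¹ by group, h]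
      have h' := (factsD4.tsys K).nS_conj i (s := actL ω s) (actL_lt ω hs) (σ * t)
      rw [factsD4.tsys_x, factsD4.tsys_x] at h'
      rw [mul_assoc (factsD4.sgn K i.val (actL ω s))]
      exact h'

/-- The reflection of the triple node. -/
noncomputable def nA : GL chevD4.Idx K :=
  (factsD4.tsys K).nw (orbWord chevD4 Cfsg.Agent.Lie.D4.Os [1])

/-- The reflection of the central node. -/
noncomputable def nB : GL chevD4.Idx K :=
  (factsD4.tsys K).nw (orbWord chevD4 Cfsg.Agent.Lie.D4.Os [0])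

theorem nA_tab : ∀ p ∈ [(14, 22), (19, 17), (16, 20), (15, 21), (17, 19), (20, 16), (21, 15), (22, 14), (23, 23)],
    actL (orbWord chevD4 Cfsg.Agent.Lie.D4.Os [1]) p.1 = p.2 ∧ p.1 < 24 := by decide +kernel

theorem nA_X {s s' : ℕ} (h : (s, s') ∈ [(14, 22), (19, 17), (16, 20), (15, 21), (17, 19), (20, 16), (21, 15),
    (22, 14), (23, 23)]) : ∃ σ : K, (σ = 1 ∨ σ = -1) ∧ ∀ t : K, MulAut.conj nA (X s t) = X s' (σ * t) := by
  obtain ⟨h1, h2⟩ := nA_tab _ h
  obtain ⟨σ, hσ, hc⟩ := nw_X (K := K) (orbWord chevD4 Cfsg.Agent.Lie.D4.Os [1]) h2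
  exact ⟨σ, hσ, fun t => by rw [MulAut.conj_apply, nA, hc, h1]⟩

theorem nA_norm {u : GL chevD4.Idx K} (hu : u ∈ QW K) : MulAut.conj nA u ∈ QW K := by
  obtain ⟨b, c1, c2, c3, d1, d2, d3, e, f, rfl⟩ := hu
  have h : ∀ {s s' : ℕ}, (s, s') ∈ [(14, 22), (19, 17), (16, 20), (15, 21), (17, 19), (20, 16), (21, 15),
      (22, 14), (23, 23)] → ∀ t : K, MulAut.conj nA (X s t) ∈ QW K := fun {s s'} hp t => by
    obtain ⟨σ, -, hσ⟩ := nA_X (K := K) hp
    rw [hσ]
    refine X_mem_QW ?_ _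
    simp at hp ⊢
    omega
  simp only [W, map_mul]
  exact mul_mem (mul_mem (mul_mem (mul_mem (mul_mem (mul_mem (mul_mem (mul_mem
    (h (s := 14) (s' := 22) (by simp) _) (h (s := 19) (s' := 17) (by simp) _))
    (h (s := 16) (s' := 20) (by simp) _)) (h (s := 15) (s' := 21) (by simp) _))
    (h (s := 17) (s' := 19) (by simp) _)) (h (s := 20) (s' := 16) (by simp) _))
    (h (s := 21) (s' := 15) (by simp) _)) (h (s := 22) (s' := 14) (by simp) _))
    (h (s := 23) (s' := 23) (by simp) _)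

theorem nB_22 : ∃ σ : K, (σ = 1 ∨ σ = -1) ∧ ∀ t : K, MulAut.conj nB (X 22 t) = X 23 (σ * t) := by
  obtain ⟨σ, hσ, hc⟩ := nw_X (K := K) (orbWord chevD4 Cfsg.Agent.Lie.D4.Os [0]) (show 22 < 24 by norm_num)
  exact ⟨σ, hσ, fun t => by
    rw [MulAut.conj_apply, nB, hc, show actL (orbWord chevD4 Cfsg.Agent.Lie.D4.Os [0]) 22 = 23 by decide +kernel]⟩

theorem cart : [14, 19, 17, 22, 23].map (fun r => (List.range 4).map fun i => chevD4.cartan i r) =
    [[-1, 2, -1, -1], [1, 1, -1, -1], [-1, 0, 1, 1], [1, -1, 1, 1], [0, 1, 0, 0]] := by decide +kernel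

/-- Conjugation by a torus element. -/
theorem tt_conj (t m : Kˣ) (b c1 c2 c3 d1 d2 d3 e f : K) :
    ∃ C2 C3 D2 D3, MulAut.conj (tt S t m) (W b c1 c2 c3 d1 d2 d3 e f) =
      W ((torChar chevD4 (S.crd t m) 14 : K) * b) ((torChar chevD4 (S.crd t m) 19 : K) * c1) C2 C3
        ((torChar chevD4 (S.crd t m) 17 : K) * d1) D2 D3 ((torChar chevD4 (S.crd t m) 22 : K) * e)
        ((torChar chevD4 (S.crd t m) 23 : K) * f) := by
  have key : ∀ r : ℕ, r < 24 → ∀ w : K, MulAut.conj (tt S t m) (X r w) =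
      X r ((torChar chevD4 (S.crd t m) r : K) * w) := fun r hr w => by
    rw [MulAut.conj_apply, tt, X, factsD4.torus_conj _ (show r < chevD4.nroots by rwa [nroots_eq])]
  simp only [W, map_mul, key 14 (by norm_num), key 19 (by norm_num), key 16 (by norm_num),
    key 15 (by norm_num), key 17 (by norm_num), key 20 (by norm_num), key 21 (by norm_num),
    key 22 (by norm_num), key 23 (by norm_num)]
  exact ⟨_, _, _, _, rfl⟩

theorem torChar_tab (t m : Kˣ) :
    torChar chevD4 (S.crd t m) 14 = t⁻¹ * m ^ 2 * (t ^ q)⁻¹ * ((t ^ q) ^ q)⁻¹ ∧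
    torChar chevD4 (S.crd t m) 19 = t * m * (t ^ q)⁻¹ * ((t ^ q) ^ q)⁻¹ ∧
    torChar chevD4 (S.crd t m) 22 = t * m⁻¹ * t ^ q * (t ^ q) ^ q ∧
    torChar chevD4 (S.crd t m) 23 = m := by
  have h := cart
  simp only [List.map_cons, List.map_nil, List.range_succ, List.range_zero, List.nil_append, List.cons_append,
    List.cons.injEq, and_true] at h
  obtain ⟨⟨a0, a1, a2, a3⟩, ⟨b0, b1, b2, b3⟩, -, ⟨c0, c1, c2, c3⟩, ⟨e0, e1, e2, e3⟩⟩ := h
  refine ⟨?_, ?_, ?_, ?_⟩
  · rw [torChar_fin, a0, a1, a2, a3]; simp [Setup.crd, zpow_ofNat]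
  · rw [torChar_fin, b0, b1, b2, b3]; simp [Setup.crd]
  · rw [torChar_fin, c0, c1, c2, c3]; simp [Setup.crd]
  · rw [torChar_fin, e0, e1, e2, e3]; simp [Setup.crd]

include S in
theorem exists_sq_ne : ∃ t : Kˣ, t ^ 2 ≠ 1 := by
  classical
  by_contra h
  simp only [not_exists, not_not] at h
  obtain ⟨g, hg⟩ := IsCyclic.exists_generator (α := Kˣ)
  have h1 : orderOf g ∣ 2 := orderOf_dvd_of_pow_eq_one (h g)
  rw [orderOf_eq_card_of_forall_mem_zpowers hg, Nat.card_units, S.hK] at h1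
  have h2 := Nat.le_of_dvd (by norm_num) h1
  have : 2 ^ 3 ≤ q ^ 3 := Nat.pow_le_pow_left S.hq 3
  omega

include S in
theorem tr_surj {d : K} (hd : d ≠ 0) {f : K} (hf : f ^ q = f) : ∃ c : K, tr q (d * c) = f := by
  classical
  obtain ⟨x0, hx0⟩ : ∃ x : K, tr q x ≠ 0 := by
    by_contra h
    simp only [not_exists, not_not] at h
    let P : Polynomial K := Polynomial.X + Polynomial.X ^ q + Polynomial.X ^ (q * q)
    have hq := S.hq
    have hqq : q < q * q := by nlinarith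
    have hP0 : P ≠ 0 := fun h0 => by
      have := congrArg (fun p : Polynomial K => p.coeff 1) h0
      simp [P, Polynomial.coeff_X_pow, show (1 : ℕ) ≠ q by omega, show (1 : ℕ) ≠ q * q by omega] at this
    have hdeg : P.natDegree ≤ q * q := by
      refine Polynomial.natDegree_add_le_of_degree_le (Polynomial.natDegree_add_le_of_degree_le ?_ ?_) ?_
      · rw [Polynomial.natDegree_X]; omega
      · rw [Polynomial.natDegree_X_pow]; omega
      · rw [Polynomial.natDegree_X_pow]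
    refine hP0 (Polynomial.eq_zero_of_natDegree_lt_card_of_eval_eq_zero P (f := id) Function.injective_id
      (fun x => ?_) ?_)
    · have := h x
      simpa [P, tr, pow_mul] using this
    · rw [← Nat.card_eq_fintype_card, S.hK]
      have : q * q < q ^ 3 := by rw [pow_succ, pow_two]; nlinarith
      omega
  have hT : tr q x0 ^ q = tr q x0 := by
    simp only [tr, qadd S, S.pow_cube x0]; ring
  obtain ⟨μ, hμ⟩ : ∃ μ, μ = f / tr q x0 := ⟨_, rfl⟩
  have hμq : μ ^ q = μ := by rw [hμ, div_pow, hf, hT]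
  refine ⟨d⁻¹ * (μ * x0), ?_⟩
  rw [← mul_assoc, mul_inv_cancel₀ hd, one_mul]
  simp only [tr, mul_pow, hμq]
  rw [show μ * x0 + μ * x0 ^ q + μ * (x0 ^ q) ^ q = μ * tr q x0 by rw [tr]; ring, hμ, div_mul_cancel₀ _ hx0]

include S in
theorem nrm_surj {μ : K} (hμ : μ ^ q = μ) : ∃ a : K, a * a ^ q * (a ^ q) ^ q = μ := by
  by_cases h0 : μ = 0
  · exact ⟨0, by rw [h0, zero_mul, zero_mul]⟩
  classical
  obtain ⟨g, hg⟩ := IsCyclic.exists_generator (α := Kˣ)
  obtain ⟨i, hi⟩ := Subgroup.mem_zpowers_iff.1 (hg (Units.mk0 μ h0))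
  have hq := S.hq
  have hord : orderOf g = q ^ 3 - 1 := by
    rw [orderOf_eq_card_of_forall_mem_zpowers hg, Nat.card_units, S.hK]
  have h1 : (g ^ i) ^ ((q - 1 : ℕ) : ℤ) = 1 := by
    rw [hi, zpow_natCast]
    ext
    rw [Units.val_pow_eq_pow_val, Units.val_mk0, Units.val_one]
    refine mul_right_cancel₀ h0 ?_
    rw [← pow_succ, one_mul, show q - 1 + 1 = q by omega, hμ]
  rw [← zpow_mul, ← orderOf_dvd_iff_zpow_eq_one, hord] at h1
  have hc : ((q ^ 3 - 1 : ℕ) : ℤ) = ((q ^ 2 + q + 1 : ℕ) : ℤ) * ((q - 1 : ℕ) : ℤ) := by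
    rw [Nat.cast_sub (Nat.one_le_pow _ _ (by omega)), Nat.cast_sub (by omega : 1 ≤ q)]
    push_cast; ring
  rw [hc, mul_dvd_mul_iff_right (by omega : ((q - 1 : ℕ) : ℤ) ≠ 0)] at h1
  obtain ⟨j, hj⟩ := h1
  refine ⟨((g ^ j : Kˣ) : K), ?_⟩
  rw [← Units.val_pow_eq_pow_val, ← Units.val_pow_eq_pow_val, ← Units.val_mul, ← Units.val_mul]
  refine Eq.trans ?_ (Units.val_mk0 h0)
  rw [← hi, hj]
  congr 1
  rw [← zpow_natCast, ← zpow_natCast, ← zpow_mul, ← zpow_mul, ← zpow_add, ← zpow_add]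
  congr 1
  push_cast; ring

end Cfsg.Agent.Small.D4Degree
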