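import Cfsg.Agent.Lib.Small.D4Degree.Fix
import Cfsg.Agent.Lib.Small.D4Degree.Count
import Cfsg.Agent.Lib.Lie.TwistD4S
import Cfsg.Agent.Lib.Char.Burnside

/-!
The minimal degree of the nontrivial complex representations of ³D₄(q).
-/

set_option autoImplicit false
set_option maxRecDepth 4000
set_option maxHeartbeats 1000000
set_option synthInstance.maxHeartbeats 400000
set_option linter.unusedSectionVars false

namespace Cfsg.Agent.Small.D4Degree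

open Cfsg.Lie Cfsg.Agent.Lie
open Cfsg.Agent.Lie.D4 (Setup)
open Cfsg.Agent.Small.D4Torus (tt nrm nrm_fix)
open scoped MatrixGroups

variable {K : Type*} [Field K] [Fintype K] {q : ℕ} (S : Setup K q)

/-- The fixed field. -/
abbrev Fq : Subfield K := RingHom.eqLocusField S.T.fr (RingHom.id K)

theorem fq_pow (x : Fq S) : (x : K) ^ q = x := by
  have h : S.T.fr (x : K) = x := x.2
  rwa [S.hfr] at h

theorem mem_fq {x : K} (h : x ^ q = x) : x ∈ Fq S := by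
  show S.T.fr x = x
  rw [S.hfr, h]

theorem card_fq [Fintype (Fq S)] : Fintype.card (Fq S) = q := by
  refine Eq.trans ?_ (card_pow_eq_self (q := q) (F := K) S.hq S.hK)
  rw [← Nat.card_eq_fintype_card]
  exact Nat.card_congr
    ⟨fun x => ⟨x.1, fq_pow S x⟩, fun x => ⟨x.1, mem_fq S x.2⟩, fun _ => rfl, fun _ => rfl⟩

/-- The elements of the quotient. -/
noncomputable def qw (x : Co (Fq S) K) : ↥(twistedD4 K q) :=
  ⟨Q q (x.1 : K) x.2.1 x.2.2.1 (x.2.2.2 : K) 0, Q_fixed S (fq_pow S _) (fq_pow S _) (qzero S)⟩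

/-- The elements of the centre. -/
noncomputable def qz (f : Fq S) : ↥(twistedD4 K q) :=
  ⟨Q q 0 0 0 0 (f : K), Q_fixed S (qzero S) (qzero S) (fq_pow S _)⟩

theorem qz_val (f : Fq S) : (qz S f : GL chevD4.Idx K) = X 23 (f : K) := Q23 S _

theorem qw_qz (x : Co (Fq S) K) (f : Fq S) :
    ((qw S x * qz S f : ↥(twistedD4 K q)) : GL chevD4.Idx K) =
      Q q (x.1 : K) x.2.1 x.2.2.1 (x.2.2.2 : K) (f : K) := by
  show Q q (x.1 : K) x.2.1 x.2.2.1 (x.2.2.2 : K) 0 * Q q 0 0 0 0 (f : K) = _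
  rw [Q_mul S]
  simp [tr, qzero S]

theorem tr_mem (x : K) : tr q x ∈ Fq S := mem_fq S (by
  simp only [tr, qadd S, S.pow_cube x]; ring)

theorem qw_mul (x y : Co (Fq S) K) : ∃ f, qw S x * qw S y = qw S (x + y) * qz S f := by
  refine ⟨-(x.2.2.2 * y.1) + ⟨_, tr_mem S (x.2.2.1 * y.2.1)⟩, Subtype.ext ?_⟩
  rw [qw_qz]
  show Q q _ _ _ _ 0 * Q q _ _ _ _ 0 = _
  rw [Q_mul S]
  congr 1
  show 0 + 0 - (x.2.2.2 : K) * (y.1 : K) + tr q (x.2.2.1 * y.2.1) = -((x.2.2.2 : K) * (y.1 : K)) + tr q (x.2.2.1 * y.2.1)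
  ring

theorem qw_uniq {x y : Co (Fq S) K} {f f' : Fq S} (h : qw S x * qz S f = qw S y * qz S f') :
    x = y ∧ f = f' := by
  have h' := congrArg Subtype.val h
  rw [qw_qz, qw_qz, Q, Q] at h'
  obtain ⟨hb, hc, -, -, hd, -, -, he, hf⟩ := W_inj h'
  exact ⟨Prod.ext (Subtype.ext hb) (Prod.ext hc (Prod.ext hd (Subtype.ext he))), Subtype.ext hf⟩

theorem qw_zero : qw S 0 = 1 := Subtype.ext (Q_zero S)

theorem maps_of {g : ↥(twistedD4 K q)} {x : Co (Fq S) K} {b c1 c2 c3 d1 d2 d3 e f : K}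
    (h : MulAut.conj (g : GL chevD4.Idx K) (Q q (x.1 : K) x.2.1 x.2.2.1 (x.2.2.2 : K) 0) =
      W b c1 c2 c3 d1 d2 d3 e f) :
    ∃ (hb : b ∈ Fq S) (he : e ∈ Fq S), MapsTo' (qz S) (qw S) g x (⟨b, hb⟩, c1, d1, ⟨e, he⟩) := by
  have hmem : W b c1 c2 c3 d1 d2 d3 e f ∈ twistedD4 K q := by
    rw [← h]; exact (g * qw S x * g⁻¹).2
  obtain ⟨hb, he, hf, hW⟩ := W_fix S hmem
  refine ⟨mem_fq S hb, mem_fq S he, ⟨f, mem_fq S hf⟩, Subtype.ext ?_⟩
  rw [qw_qz]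
  exact h.trans hW

theorem maps_congr {g : ↥(twistedD4 K q)} {x y y' : Co (Fq S) K} (h : MapsTo' (qz S) (qw S) g x y)
    (h1 : (y.1 : K) = y'.1) (h2 : y.2.1 = y'.2.1) (h3 : y.2.2.1 = y'.2.2.1) (h4 : (y.2.2.2 : K) = y'.2.2.2) :
    MapsTo' (qz S) (qw S) g x y' :=
  (Prod.ext (Subtype.ext h1) (Prod.ext h2 (Prod.ext h3 (Subtype.ext h4))) : y = y') ▸ h

theorem maps_exists {g : ↥(twistedD4 K q)}
    (hg : ∀ u ∈ QW K, MulAut.conj (g : GL chevD4.Idx K) u ∈ QW K) (x : Co (Fq S) K) :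
    ∃ y, MapsTo' (qz S) (qw S) g x y := by
  obtain ⟨b, c1, c2, c3, d1, d2, d3, e, f, h⟩ :=
    hg (Q q (x.1 : K) x.2.1 x.2.2.1 (x.2.2.2 : K) 0) ⟨_, _, _, _, _, _, _, _, _, rfl⟩
  obtain ⟨_, _, hm⟩ := maps_of S h
  exact ⟨_, hm⟩

theorem Z_exists {g : ↥(twistedD4 K q)} {s : K}
    (hg : ∀ f : K, MulAut.conj (g : GL chevD4.Idx K) (X 23 f) = X 23 (s * f)) (f : Fq S) :
    ∃ f', g * qz S f * g⁻¹ = qz S f' := by
  have h1 : MulAut.conj (g : GL chevD4.Idx K) (qz S f : GL chevD4.Idx K) = W 0 0 0 0 0 0 0 0 (s * f) := by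
    rw [qz_val, hg, W23]
  have hmem : W 0 0 0 0 0 0 0 0 (s * (f : K)) ∈ twistedD4 K q := by
    rw [← h1]; exact (g * qz S f * g⁻¹).2
  obtain ⟨-, -, hf, -⟩ := W_fix S hmem
  refine ⟨⟨_, mem_fq S hf⟩, Subtype.ext ?_⟩
  rw [qz_val, W23]
  exact h1

theorem qz_add (a b : Fq S) : qz S (a + b) = qz S a * qz S b := Subtype.ext (by
  rw [Subgroup.coe_mul, qz_val, qz_val, qz_val, add']; rfl)

theorem qz_ne {f : Fq S} (hf : f ≠ 0) : qz S f ≠ 1 := fun h => hf (by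
  have h' : qw S 0 * qz S f = qw S 0 * qz S 0 := by
    rw [h]
    congr 1
    exact Subtype.ext (Q_zero S).symm
  exact (qw_uniq S h').2)

theorem qw_comm (x : Co (Fq S) K) (f : Fq S) : Commute (qw S x) (qz S f) := Subtype.ext (by
  show Q q _ _ _ _ 0 * Q q 0 0 0 0 _ = Q q 0 0 0 0 _ * Q q _ _ _ _ 0
  rw [Q_mul S, Q_mul S]
  simp [tr, qzero S])

theorem dd_mul (d d' : K) (e e' : Fq S) :
    qw S (0, 0, d, e) * qw S (0, 0, d', e') = qw S (0, 0, d + d', e + e') := Subtype.ext (by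
  show Q q _ _ _ _ 0 * Q q _ _ _ _ 0 = Q q _ _ _ _ 0
  rw [Q_mul S]
  simp [tr, qzero S])

theorem pair (d : K) (e : Fq S) (hde : (d, e) ≠ 0) (f : Fq S) :
    ∃ x, qw S x * qw S (0, 0, d, e) * (qw S x)⁻¹ = qw S (0, 0, d, e) * qz S f := by
    obtain ⟨b, c, hbc⟩ : ∃ (b : Fq S) (c : K), (f : K) = (e : K) * (b : K) - tr q (d * c) := by
      by_cases he : e = 0
      · have hd : d ≠ 0 := fun h => hde (by rw [h, he]; rfl)
        obtain ⟨c, hc⟩ := tr_surj S hd (f := -(f : K)) (by rw [qneg S, fq_pow S])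
        exact ⟨0, c, by rw [hc]; simp⟩
      · refine ⟨f / e, 0, ?_⟩
        have he' : (e : K) ≠ 0 := fun h => he (Subtype.ext h)
        rw [Subfield.coe_div, mul_div_cancel₀ _ he']
        simp [tr, qzero S]
    refine ⟨(b, c, 0, 0), ?_⟩
    rw [mul_inv_eq_iff_eq_mul]
    apply Subtype.ext
    rw [Subgroup.coe_mul, Subgroup.coe_mul, qw_qz]
    show Q q _ _ _ _ 0 * Q q _ _ _ _ 0 = Q q _ _ _ _ (f : K) * Q q _ _ _ _ 0
    rw [Q_mul S, Q_mul S, hbc]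
    congr 1 <;> simp [tr, qzero S]
    ring

theorem conjZ {f f' : Fq S} (hf : f ≠ 0) (hf' : f' ≠ 0) : ∃ g, g * qz S f * g⁻¹ = qz S f' := by
    have h0 : ((f' / f : Fq S) : K) ≠ 0 := fun h => div_ne_zero hf' hf (Subtype.ext h)
    obtain ⟨m, hm⟩ : ∃ m : Kˣ, m = Units.mk0 _ h0 := ⟨_, rfl⟩
    have hmq : m ^ q = m := by
      rw [hm]; ext; rw [Units.val_pow_eq_pow_val, Units.val_mk0, fq_pow S]
    refine ⟨⟨tt S 1 m, S.torus_mem hmq⟩, Subtype.ext ?_⟩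
    show tt S 1 m * (qz S f : GL chevD4.Idx K) * (tt S 1 m)⁻¹ = _
    rw [qz_val, qz_val, tt, X, factsD4.torus_conj _ (by rw [nroots_eq]; norm_num),
      (torChar_tab S 1 m).2.2.2]
    congr 1
    rw [hm, Units.val_mk0, Subfield.coe_div, div_mul_cancel₀ _ (fun h => hf (Subtype.ext h))]

theorem conjE {e : Fq S} (he : e ≠ 0) :
    ∃ g f, f ≠ 0 ∧ g * qw S (0, 0, 0, e) * g⁻¹ = qz S f := by
    obtain ⟨σ, hσ, hc⟩ := nB_22 (K := K)
    have hσq : σ ^ q = σ := by rcases hσ with rfl | rfl <;> simp [qneg S]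
    refine ⟨⟨nB, Cfsg.Agent.Small.D4Torus.nwOrb_mem S _⟩, ⟨σ * (e : K), mem_fq S (by rw [mul_pow, hσq, fq_pow S])⟩,
      fun h => ?_, Subtype.ext ?_⟩
    · have h' : σ * (e : K) = 0 := congrArg Subtype.val h
      rcases hσ with rfl | rfl <;> simp at h' <;> exact he h'
    · show MulAut.conj nB (Q q 0 0 0 (e : K) 0) = _
      rw [qz_val, Q, qzero S, qzero S, neg_zero, ← W22, hc]

theorem shiftE {d : K} (hd : d ≠ 0) (e0 : Fq S) : ∃ g, (∀ f, Commute g (qz S f)) ∧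
    ∀ e, ∃ f, g * qw S (0, 0, d, e) * g⁻¹ = qw S (0, 0, d, e + e0) * qz S f := by
    obtain ⟨a, ha⟩ := tr_surj S hd (f := -(e0 : K)) (by rw [qneg S, fq_pow S])
    refine ⟨⟨A q a, A_mem S a⟩, fun f => Subtype.ext ?_, fun e => ⟨0, Subtype.ext ?_⟩⟩
    · show A q a * _ = _ * A q a
      rw [qz_val, ← mul_inv_eq_iff_eq_mul]
      exact A_conj23 a (f : K)
    · rw [qw_qz]
      show MulAut.conj (A q a) (Q q 0 0 d (e : K) 0) = Q q 0 0 d ((e : K) + (e0 : K)) 0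
      simp only [Q, A, qzero S, neg_zero]
      rw [conjA_DE]
      congr 1
      simp only [tr, mul_pow] at ha
      linear_combination -ha

theorem torus_move : ∃ g, (∀ x, ∃ y, MapsTo' (qz S) (qw S) g x y) ∧ (∀ f, ∃ f', g * qz S f * g⁻¹ = qz S f') ∧
    (∀ e, MapsTo' (qz S) (qw S) g (0, 0, 0, e) (0, 0, 0, e)) ∧
    (∀ d, ∃ d', MapsTo' (qz S) (qw S) g (0, 0, d, 0) (0, 0, d', 0)) ∧
    ∀ c0, ∃ c, MapsTo' (qz S) (qw S) g (0, c, 0, 0) (0, c + c0, 0, 0) := by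
    obtain ⟨t, ht⟩ := exists_sq_ne S
    have hmem := S.torus_mem (t := t) (m := nrm q t) (nrm_fix S t)
    obtain ⟨v14, v19, v22, -⟩ := torChar_tab S t (nrm q t)
    have h22 : torChar chevD4 (S.crd t (nrm q t)) 22 = 1 := by
      rw [v22, nrm, mul_assoc (t * _) (t ^ q), mul_right_comm t, ← mul_assoc t]
      simp
    have h19 : torChar chevD4 (S.crd t (nrm q t)) 19 = t ^ 2 := by
      rw [v19, nrm, pow_two]
      apply Units.ext
      push_cast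
      field_simp
    refine ⟨⟨tt S t (nrm q t), hmem⟩, maps_exists S fun u hu => ?_, Z_exists S (s := (nrm q t : Kˣ)) fun f => ?_,
      fun e => ?_, fun d => ?_, fun c0 => ?_⟩
    · obtain ⟨b, c1, c2, c3, d1, d2, d3, e, f, rfl⟩ := hu
      obtain ⟨C2, C3, D2, D3, h⟩ := tt_conj S t (nrm q t) b c1 c2 c3 d1 d2 d3 e f
      exact ⟨_, _, _, _, _, _, _, _, _, h⟩
    · show tt S t (nrm q t) * X 23 f * (tt S t (nrm q t))⁻¹ = _
      rw [tt, X, factsD4.torus_conj _ (by rw [nroots_eq]; norm_num),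
        (torChar_tab S t (nrm q t)).2.2.2]
    · obtain ⟨C2, C3, D2, D3, h⟩ := tt_conj S t (nrm q t) 0 0 (-0 ^ q) (-((0 : K) ^ q) ^ q) 0 (-0 ^ q)
        (-((0 : K) ^ q) ^ q) (e : K) 0
      obtain ⟨hb, he, hm⟩ := maps_of S (g := ⟨tt S t (nrm q t), hmem⟩) (x := (0, 0, 0, e)) h
      exact maps_congr S hm (mul_zero _) (mul_zero _) (mul_zero _) (by simp [h22])
    · obtain ⟨C2, C3, D2, D3, h⟩ := tt_conj S t (nrm q t) 0 0 (-0 ^ q) (-((0 : K) ^ q) ^ q) d (-d ^ q)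
        (-(d ^ q) ^ q) 0 0
      obtain ⟨hb, he, hm⟩ := maps_of S (g := ⟨tt S t (nrm q t), hmem⟩) (x := (0, 0, d, 0)) h
      refine ⟨(torChar chevD4 (S.crd t (nrm q t)) 17 : K) * d, ?_⟩
      exact maps_congr S hm (mul_zero _) (mul_zero _) rfl (mul_zero _)
    · have hd : (t : K) ^ 2 - 1 ≠ 0 := sub_ne_zero.2 fun e => ht (Units.ext (by simpa using e))
      obtain ⟨c, hc⟩ : ∃ c : K, c = c0 / ((t : K) ^ 2 - 1) := ⟨_, rfl⟩
      obtain ⟨C2, C3, D2, D3, h⟩ := tt_conj S t (nrm q t) 0 c (-c ^ q) (-(c ^ q) ^ q) 0 (-0 ^ q)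
        (-((0 : K) ^ q) ^ q) 0 0
      obtain ⟨hb, he, hm⟩ := maps_of S (g := ⟨tt S t (nrm q t), hmem⟩) (x := (0, c, 0, 0)) h
      refine ⟨c, ?_⟩
      refine maps_congr S hm (mul_zero _) ?_ (mul_zero _) (mul_zero _)
      show _ = c + c0
      rw [h19, hc, Units.val_pow_eq_pow_val]
      field_simp
      ring

theorem weyl_move : ∃ pre : Fq S → Fq S, ∀ μ, ∃ g, (∀ x, ∃ y, MapsTo' (qz S) (qw S) g x y) ∧ (∀ f, ∃ f', g * qz S f * g⁻¹ = qz S f') ∧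
    (∀ e, ∃ b c d, MapsTo' (qz S) (qw S) g (0, 0, 0, e) (b, c, d, -(μ * b))) ∧
    ∀ b, MapsTo' (qz S) (qw S) g (pre b, 0, 0, 0) (0, 0, 0, b) := by
    obtain ⟨σ, hσ, h14⟩ := nA_X (K := K) (s := 14) (s' := 22) (by simp)
    obtain ⟨σ', hσ', h22⟩ := nA_X (K := K) (s := 22) (s' := 14) (by simp)
    obtain ⟨σ'', -, h23⟩ := nA_X (K := K) (s := 23) (s' := 23) (by simp)
    have hσq : σ ^ q = σ := by rcases hσ with rfl | rfl <;> simp [qneg S]
    have hσσ : σ * σ = 1 := by rcases hσ with rfl | rfl <;> simp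
    refine ⟨fun b => ⟨σ * (b : K), mem_fq S (by rw [mul_pow, hσq, fq_pow S])⟩, fun μ => ?_⟩
    obtain ⟨a, ha⟩ := nrm_surj S (fq_pow S μ)
    have hg : A q a * nA ∈ twistedD4 K q := mul_mem (A_mem S a) (Cfsg.Agent.Small.D4Torus.nwOrb_mem S _)
    refine ⟨⟨A q a * nA, hg⟩,
      maps_exists S fun u hu => ?_, Z_exists S (s := σ'') fun f => ?_, fun e => ?_, fun b => ?_⟩
    · rw [map_mul, MulAut.mul_apply]
      obtain ⟨b, c1, c2, c3, d1, d2, d3, e, f, h⟩ := nA_norm hu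
      rw [h]
      obtain ⟨C1, C2, C3, D1, D2, D3, F', h'⟩ := conjA a (a ^ q) ((a ^ q) ^ q) b c1 c2 c3 d1 d2 d3 e f
      exact ⟨_, _, _, _, _, _, _, _, _, h'⟩
    · rw [map_mul, MulAut.mul_apply, h23, A_conj23]
    · obtain ⟨C1, C2, C3, D1, D2, D3, F', h'⟩ := conjA a (a ^ q) ((a ^ q) ^ q) (σ' * (e : K)) 0 0 0 0 0 0 0 0
      have hconj : MulAut.conj (A q a * nA) (Q q (0 : K) 0 0 (e : K) 0) =
          W (σ' * (e : K)) C1 C2 C3 D1 D2 D3 (-((μ : K) * (σ' * (e : K)))) F' := by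
        rw [map_mul, MulAut.mul_apply, Q, qzero S, qzero S, neg_zero, ← W22, h22, W_start, A, h']
        congr 1
        rw [← ha]; ring
      obtain ⟨hb, he, hm⟩ := maps_of S (g := ⟨A q a * nA, hg⟩) (x := (0, 0, 0, e)) hconj
      refine ⟨⟨_, hb⟩, C1, D1, ?_⟩
      exact maps_congr S hm rfl rfl rfl (by simp)
    · obtain ⟨C1, C2, C3, D1, D2, D3, F', h'⟩ := conjA a (a ^ q) ((a ^ q) ^ q) 0 0 0 0 0 0 0 (b : K) 0
      have hconj : MulAut.conj (A q a * nA) (Q q (σ * (b : K)) 0 0 0 0) =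
          W 0 0 0 0 0 0 0 (b : K) 0 := by
        rw [map_mul, MulAut.mul_apply, Q, qzero S, qzero S, neg_zero, ← W_start, h14, ← mul_assoc, hσσ,
          one_mul, W22, A, conjA_DE]
        congr 1
        ring
      obtain ⟨hb, he, hm⟩ := maps_of S (g := ⟨A q a * nA, hg⟩)
        (x := (⟨σ * (b : K), mem_fq S (by rw [mul_pow, hσq, fq_pow S])⟩, 0, 0, 0)) hconj
      exact maps_congr S hm rfl rfl rfl rfl

/-- The radical of ³D₄(q) as a configuration. -/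
noncomputable def conf [Fintype (Fq S)] : Conf ↥(twistedD4 K q) (Fq S) K where
  Zh := qz S
  w := qw S
  hcard := by rw [card_fq, ← Nat.card_eq_fintype_card, S.hK]
  zh_add := qz_add S
  zh_ne := qz_ne S
  w_mul := qw_mul S
  w_zero := qw_zero S
  w_comm := qw_comm S
  w_uniq h := (qw_uniq S h).1
  dd_mul := dd_mul S
  pair := pair S
  conjZ := conjZ S
  conjE := conjE S
  shiftE := shiftE S
  torus := torus_move S
  weyl := weyl_move S

include S in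
theorem not_dvd_card : ¬ (q ^ 4 + q ^ 3 + 1) ∣ Nat.card ↥(twistedD4 K q) := by
  rw [S.card_group, mul_assoc, mul_assoc]
  have hcop : Nat.Coprime (q ^ 4 + q ^ 3 + 1) (q ^ 12) := by
    refine Nat.Coprime.pow_right _ ?_
    rw [show q ^ 4 + q ^ 3 + 1 = 1 + q * (q ^ 3 + q ^ 2) by ring, Nat.coprime_add_mul_left_left]
    exact Nat.coprime_one_left q
  intro h
  have h' := hcop.dvd_of_dvd_mul_left h
  have hq := S.hq
  by_cases hsm : q ≤ 5
  · interval_cases q <;> norm_num at h'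
  rw [← mul_assoc] at h'
  have hz : ((q ^ 4 + q ^ 3 + 1 : ℕ) : ℤ) ∣ (((q ^ 2 - 1) * (q ^ 6 - 1) * (q ^ 8 + q ^ 4 + 1) : ℕ) : ℤ) :=
    Int.natCast_dvd_natCast.2 h'
  rw [Nat.cast_mul, Nat.cast_mul, Nat.cast_sub (Nat.one_le_pow _ _ (by omega)),
    Nat.cast_sub (Nat.one_le_pow _ _ (by omega))] at hz
  push_cast at hz
  obtain ⟨k, hk⟩ := hz
  have hR : ((q : ℤ) ^ 4 + (q : ℤ) ^ 3 + 1) ∣ (6 * (q : ℤ) ^ 3 + 2 * (q : ℤ) ^ 2 - 4 * q + 5) :=
    ⟨(q : ℤ) ^ 12 - (q : ℤ) ^ 11 + (q : ℤ) ^ 7 - 3 * (q : ℤ) ^ 6 + 3 * (q : ℤ) ^ 5 - (q : ℤ) ^ 4 +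
      (q : ℤ) ^ 2 - 4 * q + 6 - k, by linear_combination -hk⟩
  have h6 : (6 : ℤ) ≤ q := by exact_mod_cast (by omega : 6 ≤ q)
  have hpos : (0 : ℤ) < 6 * (q : ℤ) ^ 3 + 2 * (q : ℤ) ^ 2 - 4 * q + 5 := by nlinarith
  have hle := Int.le_of_dvd hpos hR
  nlinarith [mul_le_mul_of_nonneg_left h6 (by positivity : (0 : ℤ) ≤ (q : ℤ) ^ 3)]

include S in
/-- The minimal degree of a faithful irreducible representation. -/
theorem min_degree {k : ℕ} (ρ : Representation ℂ ↥(twistedD4 K q) (Fin k → ℂ)) (hirr : ρ.IsIrreducible)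
    (hρ : Function.Injective ρ) : q * (q ^ 4 - q ^ 2 + 1) ≤ k := by
  classical
  have hdvd : k ∣ Nat.card ↥(twistedD4 K q) := by
    have h := Cfsg.Agent.Char.deg_dvd_card (Cfsg.Agent.Char.isIrrCharacter_character ρ hirr)
    rwa [Cfsg.Agent.Char.deg_character, Module.finrank_fin_fun] at h
  have h := (conf S).degree_bound ρ hρ
  rw [card_fq, Module.finrank_fin_fun] at h
  have hq := S.hq
  obtain ⟨n, rfl⟩ : ∃ n, q = n + 2 := ⟨q - 2, by omega⟩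
  have e1 : n + 2 - 1 = n + 1 := by omega
  rw [e1] at h
  have ht : (n + 2) * ((n + 2) ^ 4 - (n + 2) ^ 2 + 1) + (n + 2) ^ 3 = (n + 2) ^ 5 + (n + 2) := by
    have : (n + 2) ^ 2 ≤ (n + 2) ^ 4 := Nat.pow_le_pow_right (by omega) (by omega)
    obtain ⟨r, hr⟩ := Nat.exists_eq_add_of_le this
    rw [hr, Nat.add_sub_cancel_left]
    have h5 : (n + 2) * (n + 2) ^ 4 = (n + 2) * ((n + 2) ^ 2 + r) := by rw [hr]
    ring_nf at h5 ⊢
    omega
  rcases h with h | h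
  · have : (n + 2) ^ 5 + (n + 2) ≤ 2 * ((n + 2) ^ 4 * (n + 1)) + (n + 2) ^ 3 := by
      ring_nf; nlinarith [Nat.zero_le n, Nat.zero_le (n ^ 2), Nat.zero_le (n ^ 3), Nat.zero_le (n ^ 4), Nat.zero_le (n ^ 5)]
    omega
  · by_contra hlt
    have he : (n + 2) ^ 4 * (n + 1) + (n + 2) ^ 3 * (n + 1) + (n + 1) + 1 + (n + 2) ^ 3 =
        (n + 2) ^ 5 + (n + 2) := by ring
    have hk : k = (n + 1) * ((n + 2) ^ 4 + (n + 2) ^ 3 + 1) := by
      have : (n + 1) * ((n + 2) ^ 4 + (n + 2) ^ 3 + 1) =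
          (n + 2) ^ 4 * (n + 1) + (n + 2) ^ 3 * (n + 1) + (n + 1) := by ring
      omega
    exact not_dvd_card S ((Dvd.intro_left _ hk.symm).trans hdvd)

end Cfsg.Agent.Small.D4Degree
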