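import Mathlib

/-!
Multiplicities of the characters of a finite abelian group acting through operators `R` with
`R (x + y) = R x * R y`; `R 0` need not be the identity.
-/

set_option autoImplicit false
set_option linter.unusedSectionVars false

namespace Cfsg.Agent.Small.D4Degree

open Module Finset

variable {A : Type*} [AddCommGroup A] [Fintype A] {M : Type*} [AddCommGroup M] [Module ℂ M]
  [FiniteDimensional ℂ M]

/-- The projection on a character. -/
noncomputable def wp (R : A → Module.End ℂ M) (χ : AddChar A ℂ) : Module.End ℂ M :=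
  (Fintype.card A : ℂ)⁻¹ • ∑ x, χ (-x) • R x

/-- The multiplicity of a character. -/
noncomputable def wm (R : A → Module.End ℂ M) (χ : AddChar A ℂ) : ℕ :=
  finrank ℂ (LinearMap.range (wp R χ))

variable {R : A → Module.End ℂ M}

theorem card_ne (A : Type*) [AddCommGroup A] [Fintype A] : (Fintype.card A : ℂ) ≠ 0 :=
  Nat.cast_ne_zero.2 Fintype.card_ne_zero

section Hom

variable (hR : ∀ x y, R (x + y) = R x * R y)
include hR

theorem mul_wp (c : A) (χ : AddChar A ℂ) : R c * wp R χ = χ c • wp R χ := by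
  have hsum : ∑ x, R c * (χ (-x) • R x) = ∑ x, χ c • (χ (-x) • R x) := by
    refine Fintype.sum_equiv (Equiv.addLeft c) _ _ fun x => ?_
    show R c * (χ (-x) • R x) = χ c • (χ (-(c + x)) • R (c + x))
    rw [mul_smul_comm, ← hR, smul_smul, ← AddChar.map_add_eq_mul]
    congr 2; abel
  rw [wp, mul_smul_comm, Finset.mul_sum, hsum, ← Finset.smul_sum, smul_comm]

theorem wp_idem (χ : AddChar A ℂ) : wp R χ * wp R χ = wp R χ := by
  nth_rewrite 1 [wp]
  rw [smul_mul_assoc, Finset.sum_mul]
  simp only [smul_mul_assoc, mul_wp hR, smul_smul, ← AddChar.map_add_eq_mul, neg_add_cancel,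
    AddChar.map_zero_eq_one, Finset.sum_const, Finset.card_univ]
  rw [one_smul, ← Nat.cast_smul_eq_nsmul ℂ, smul_smul, inv_mul_cancel₀ (card_ne A), one_smul]

theorem sum_wp : ∑ χ : AddChar A ℂ, wp R χ = R 0 := by
  classical
  simp only [wp, ← Finset.smul_sum]
  rw [Finset.sum_comm]
  have h : ∀ x : A, ∑ χ : AddChar A ℂ, χ (-x) • R x =
      if x = 0 then (Fintype.card A : ℂ) • R 0 else 0 := fun x => by
    rw [← Finset.sum_smul, AddChar.sum_apply_eq_ite]
    by_cases hx : x = 0
    · simp [hx]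
    · rw [if_neg (by simpa using hx), if_neg hx, zero_smul]
  rw [Finset.sum_congr rfl fun x _ => h x, Finset.sum_ite_eq' Finset.univ, if_pos (Finset.mem_univ _),
    smul_smul, inv_mul_cancel₀ (card_ne A), one_smul]

/-- The multiplicity as a character sum. -/
theorem wm_eq (χ : AddChar A ℂ) :
    (wm R χ : ℂ) = (Fintype.card A : ℂ)⁻¹ * ∑ x, χ (-x) * LinearMap.trace ℂ M (R x) := by
  have hp : LinearMap.IsProj (LinearMap.range (wp R χ)) (wp R χ) := by
    refine ⟨fun x => LinearMap.mem_range_self _ x, ?_⟩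
    rintro _ ⟨x, rfl⟩
    exact LinearMap.congr_fun (wp_idem hR χ) x
  rw [wm, ← hp.trace, wp, map_smul, map_sum, smul_eq_mul]
  simp only [map_smul, smul_eq_mul]

theorem op_eq_sum (x : A) : R x = ∑ χ : AddChar A ℂ, χ x • wp R χ := by
  conv_lhs => rw [← add_zero x, hR, ← sum_wp hR, Finset.mul_sum]
  exact Finset.sum_congr rfl fun χ _ => mul_wp hR x χ

theorem trace_eq_sum (x : A) :
    LinearMap.trace ℂ M (R x) = ∑ χ : AddChar A ℂ, χ x * (wm R χ : ℂ) := by
  rw [op_eq_sum hR x, map_sum]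
  refine Finset.sum_congr rfl fun χ _ => ?_
  rw [map_smul, smul_eq_mul, wm_eq hR, wp, map_smul, map_sum, smul_eq_mul]
  simp only [map_smul, smul_eq_mul]

theorem op_eq_zero_apply {x : A} (h : ∀ χ : AddChar A ℂ, χ x ≠ 1 → wm R χ = 0) : R x = R 0 := by
  rw [op_eq_sum hR x, ← sum_wp hR]
  refine Finset.sum_congr rfl fun χ _ => ?_
  by_cases hx : χ x = 1
  · rw [hx, one_smul]
  · rw [LinearMap.range_eq_bot.1 (Submodule.finrank_eq_zero.1 (h χ hx)), smul_zero]

/-- Automorphisms preserving the traces preserve the multiplicities. -/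
theorem wm_move (φ : A →+ A) (hφ : Function.Bijective φ)
    (ht : ∀ x, LinearMap.trace ℂ M (R (φ x)) = LinearMap.trace ℂ M (R x)) (χ : AddChar A ℂ) :
    wm R (χ.compAddMonoidHom φ) = wm R χ := by
  apply Nat.cast_injective (R := ℂ)
  rw [wm_eq hR, wm_eq hR]
  congr 1
  refine Fintype.sum_equiv (Equiv.ofBijective φ hφ) _ _ fun x => ?_
  rw [Equiv.ofBijective_apply, ht, AddChar.compAddMonoidHom_apply, map_neg]

/-- Restriction to a subgroup adds up the multiplicities. -/
theorem wm_comp {B : Type*} [AddCommGroup B] [Fintype B] (ι : B →+ A) (ε : AddChar B ℂ)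
    [DecidablePred fun χ : AddChar A ℂ => χ.compAddMonoidHom ι = ε] :
    wm (R ∘ ι) ε = ∑ χ ∈ univ.filter (fun χ : AddChar A ℂ => χ.compAddMonoidHom ι = ε), wm R χ := by
  classical
  apply Nat.cast_injective (R := ℂ)
  rw [wm_eq (R := R ∘ ι) (fun x y => by simp only [Function.comp_apply, map_add, hR])]
  simp only [Function.comp_apply, trace_eq_sum hR, Finset.mul_sum]
  rw [Finset.sum_comm, Nat.cast_sum, Finset.sum_filter]
  refine Finset.sum_congr rfl fun χ _ => ?_
  have h := AddChar.sum_eq_ite (χ.compAddMonoidHom ι / ε)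
  simp only [AddChar.div_apply', AddChar.compAddMonoidHom_apply] at h
  have e : ∀ y : B, (Fintype.card B : ℂ)⁻¹ * (ε (-y) * (χ (ι y) * (wm R χ : ℂ))) =
      (Fintype.card B : ℂ)⁻¹ * (wm R χ : ℂ) * (χ (ι y) / ε y) := fun y => by
    rw [AddChar.map_neg_eq_inv, div_eq_mul_inv]; ring
  rw [Finset.sum_congr rfl fun y _ => e y, ← Finset.mul_sum]
  by_cases hc : χ.compAddMonoidHom ι = ε
  · rw [if_pos hc]
    have e1 : ∀ y : B, χ (ι y) / ε y = 1 := fun y => by
      rw [← hc, AddChar.compAddMonoidHom_apply, div_self]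
      intro h0
      have h1 := AddChar.map_add_eq_mul χ (ι y) (-ι y)
      rw [add_neg_cancel, AddChar.map_zero_eq_one, h0, zero_mul] at h1
      exact one_ne_zero h1
    rw [Finset.sum_congr rfl fun y _ => e1 y, Finset.sum_const, Finset.card_univ, nsmul_eq_mul, mul_one,
      mul_comm ((Fintype.card B : ℂ)⁻¹), mul_assoc, inv_mul_cancel₀ (card_ne B), mul_one]
  · rw [if_neg hc]
    have h0 : χ.compAddMonoidHom ι / ε ≠ 0 := fun e0 => hc (div_eq_one.1 (e0.trans (AddChar.one_eq_zero).symm))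
    rw [if_neg h0] at h
    rw [h, mul_zero]

end Hom

end Cfsg.Agent.Small.D4Degree
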